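import Groth.Agent.L17.FlatPair.Pair
import Groth.Agent.L17.Approx.Pull
import Groth.Agent.L17.BC.Model
import Groth.Agent.L16.QcqsPush
import Mathlib.RingTheory.Flat.Stability

/-!
The embedding of a module into the direct image of its restriction to an affine cover.
-/

set_option autoImplicit false
set_option linter.style.haveILetI false
set_option linter.unusedSectionVars false
set_option backward.isDefEq.respectTransparency false
set_option backward.isDefEq.respectTransparency.types false

universe u

open CategoryTheory CategoryTheory.Limits AlgebraicGeometry TopologicalSpace Opposite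
open scoped TensorProduct
noncomputable section

namespace Groth.L17.Kun

open Groth.L00.PullStalk (φ stalkIso)
open Groth.L17.ClosedPush (cHom c₀ c₀_germ stk_map_germ stalkIso_unit_germ)
open Groth.L00.StalkTensor (St exists_germ)
open Groth.L00.Tensor (pre tensorMap)

/-- Extension along a bijective map of rings changes nothing. -/
theorem isIso_unit_of_bijective {R R' : Type u} [CommRing R] [CommRing R'] (f : R →+* R')
    (hf : Function.Bijective f) (N : ModuleCat.{u} R) :
    IsIso ((ModuleCat.extendRestrictScalarsAdj f).unit.app N) := by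
  letI := f.toAlgebra
  let ε : R ≃ₗ[R] R' := LinearEquiv.ofBijective (Algebra.linearMap R R') hf
  let ψ : N ≃ₗ[R] R' ⊗[R] N := (TensorProduct.lid R N).symm.trans (ε.rTensor _)
  rw [ConcreteCategory.isIso_iff_bijective]
  have h : ∀ n : N, ψ n = (1 : R') ⊗ₜ[R] n := fun n => by
    show (ε.rTensor N) ((1 : R) ⊗ₜ[R] n) = _
    rw [LinearEquiv.rTensor_tmul]
    exact congrArg (fun r : R' => r ⊗ₜ[R] n) (map_one (algebraMap R R'))
  refine ⟨fun a b hab => ψ.injective ((h a).trans (hab.trans (h b).symm)), fun y => ?_⟩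
  obtain ⟨n, rfl⟩ := ψ.surjective y
  exact ⟨n, (h n).symm⟩

variable {X W S : Scheme.{u}} (q : W ⟶ X)

/-- At a point where `q` is a local isomorphism, the unit is a split monomorphism on stalks. -/
theorem isSplitMono_stalk_unit (Z : X.Modules) (w : W) [IsIso (q.stalkMap w)] :
    IsSplitMono ((Groth.L00.Stk.F X (q w)).map ((Scheme.Modules.pullbackPushforwardAdjunction q).unit.app Z)) := by
  have hb : Function.Bijective (φ q w) := ConcreteCategory.bijective_of_isIso (q.stalkMap w)
  haveI := isIso_unit_of_bijective (φ q w) hb ((Groth.L00.Stk.F X (q w)).obj Z)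
  let u := (ModuleCat.extendRestrictScalarsAdj (φ q w)).unit.app ((Groth.L00.Stk.F X (q w)).obj Z)
  let r : (Groth.L00.Stk.F X (q w)).obj ((Scheme.Modules.pushforward q).obj ((Scheme.Modules.pullback q).obj Z)) ⟶
      (Groth.L00.Stk.F X (q w)).obj Z :=
    cHom q ((Scheme.Modules.pullback q).obj Z) w ≫
      (ModuleCat.restrictScalars (φ q w)).map ((stalkIso q w).hom.app Z) ≫ inv u
  have h : ((Groth.L00.Stk.F X (q w)).map ((Scheme.Modules.pullbackPushforwardAdjunction q).unit.app Z) ≫
      cHom q ((Scheme.Modules.pullback q).obj Z) w ≫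
        (ModuleCat.restrictScalars (φ q w)).map ((stalkIso q w).hom.app Z)) = u :=
    ModuleCat.hom_ext (LinearMap.ext fun s => by
      obtain ⟨V, hV, n, rfl⟩ := exists_germ (pre Z) (q w) s
      refine (congrArg ((stalkIso q w).hom.app Z) ((congrArg (c₀ q _ w)
        (stk_map_germ ((Scheme.Modules.pullbackPushforwardAdjunction q).unit.app Z) (q w) hV n)).trans
          (c₀_germ q _ w hV _))).trans ?_
      exact stalkIso_unit_germ q Z w hV n)
  exact IsSplitMono.mk' ⟨r, by
    show (Groth.L00.Stk.F X (q w)).map _ ≫ r = _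
    simp only [r]
    rw [← Category.assoc _ _ (inv u), ← Category.assoc _ _ (inv u)]
    rw [h, IsIso.hom_inv_id]⟩

/-- Flatness over the base passes to the pullback along a local isomorphism. -/
theorem isFlatOverAt_pullback_of_isIso (f : X ⟶ S) (Z : X.Modules) (w : W) [IsIso (q.stalkMap w)]
    (h : FlatMod.IsFlatOverAt f Z (q w)) :
    FlatMod.IsFlatOverAt (q ≫ f) ((Scheme.Modules.pullback q).obj Z) w := by
  let O := X.presheaf.stalk (q w)
  let O' := W.presheaf.stalk w
  let R := S.presheaf.stalk (f (q w))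
  letI : Algebra O O' := (φ q w).toAlgebra
  let M := Z.presheaf.stalk (q w)
  let N := ((Scheme.Modules.pullback q).obj Z).presheaf.stalk w
  letI : Module R M := FlatMod.moduleStalkOver f Z (q w)
  letI : Module R N := FlatMod.moduleStalkOver (q ≫ f) ((Scheme.Modules.pullback q).obj Z) w
  haveI : Module.Flat R M := h
  let e : N ≃ₗ[O'] O' ⊗[O] M := ((stalkIso q w).app Z).toLinearEquiv
  let ε : O ≃ₗ[O] O' := LinearEquiv.ofBijective (Algebra.linearMap O O')
    (ConcreteCategory.bijective_of_isIso (q.stalkMap w))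
  let ψ : M ≃ₗ[O] O' ⊗[O] M := (TensorProduct.lid O _).symm.trans (ε.rTensor _)
  show Module.Flat R N
  exact Module.Flat.of_linearEquiv ({ ψ.toAddEquiv.trans e.symm.toAddEquiv with
    map_smul' := fun r m => by
      show e.symm (ψ ((f.stalkMap (q w) r : O) • m)) = ((q ≫ f).stalkMap w r : O') • e.symm (ψ m)
      rw [map_smul ψ, Scheme.Hom.stalkMap_comp, ← map_smul e.symm]
      refine congrArg e.symm ?_
      rw [← algebraMap_smul O' (f.stalkMap (q w) r : O) (ψ m)]
      rfl } : M ≃ₗ[R] N).symm

/-- A cover by an affine scheme with local isomorphisms. -/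
structure IsCover (q : W ⟶ X) : Prop where
  surj : Function.Surjective q
  iso : ∀ w : W, IsIso (q.stalkMap w)

variable {q}

/-- The embedding. -/
abbrev η (q : W ⟶ X) (Z : X.Modules) :
    Z ⟶ (Scheme.Modules.pushforward q).obj ((Scheme.Modules.pullback q).obj Z) :=
  (Scheme.Modules.pullbackPushforwardAdjunction q).unit.app Z

theorem isSplitMono_stalk_η (hq : IsCover q) (Z : X.Modules) (x : X) :
    IsSplitMono ((Groth.L00.Stk.F X x).map (η q Z)) := by
  obtain ⟨w, rfl⟩ := hq.surj x
  haveI := hq.iso w
  exact isSplitMono_stalk_unit q Z w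

theorem mono_η (hq : IsCover q) (Z : X.Modules) : Mono (η q Z) := by
  refine (Groth.L21.Mod.mono_iff_stalk_injective _).2 fun x => ?_
  haveI := isSplitMono_stalk_η hq Z x
  exact (ModuleCat.mono_iff_injective ((Groth.L00.Stk.F X x).map (η q Z))).1 inferInstance

/-- The short exact sequence. -/
abbrev seq (q : W ⟶ X) (Z : X.Modules) : ShortComplex X.Modules :=
  ShortComplex.mk (η q Z) (cokernel.π (η q Z)) (cokernel.condition _)

theorem seq_shortExact (hq : IsCover q) (Z : X.Modules) : (seq q Z).ShortExact where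
  exact := ShortComplex.exact_of_g_is_cokernel _ (cokernelIsCokernel _)
  mono_f := mono_η hq Z
  epi_g := inferInstanceAs (Epi (cokernel.π (η q Z)))

variable (q)

theorem isQCoh_push_pull [IsAffineHom q] (Z : X.Modules) [Coh.IsQCoh Z] :
    Coh.IsQCoh ((Scheme.Modules.pushforward q).obj ((Scheme.Modules.pullback q).obj Z)) :=
  haveI := Groth.L16.AffineBC.isQCoh_pullback q Z
  Groth.L16.QcqsPush.isQCoh_push _ q

section Flat

variable {A : Type u} [CommRing A] (f : X ⟶ Spec (CommRingCat.of A))

/-- Sections of a direct image. -/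
def secPush (M : W.Modules) (V : X.Opens) :
    BC.Sec (Coh.toGlobal (q ≫ f)) M (q ⁻¹ᵁ V) ≃ₗ[A]
      BC.Sec (Coh.toGlobal f) ((Scheme.Modules.pushforward q).obj M) V where
  toFun s := s
  invFun s := s
  left_inv _ := rfl
  right_inv _ := rfl
  map_add' _ _ := rfl
  map_smul' a s := by
    refine congrArg (fun c : Γ(W, q ⁻¹ᵁ V) => c • (show Γ(M, q ⁻¹ᵁ V) from s)) ?_
    exact ConcreteCategory.congr_hom (show (f.appTop ≫ q.appTop) ≫ W.presheaf.map (homOfLE le_top).op =
      (f.appTop ≫ X.presheaf.map (homOfLE le_top).op) ≫ q.app V by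
        rw [Category.assoc, Category.assoc]
        exact congrArg (f.appTop ≫ ·) (q.naturality (homOfLE (le_top : V ≤ ⊤)).op).symm)
      ((Scheme.ΓSpecIso (CommRingCat.of A)).inv a)

theorem isFlatOver_push_pull (hq : IsCover q) [IsAffineHom q] (Z : X.Modules) [Coh.IsQCoh Z]
    (hZ : FlatMod.IsFlatOver f Z) :
    FlatMod.IsFlatOver f ((Scheme.Modules.pushforward q).obj ((Scheme.Modules.pullback q).obj Z)) := by
  haveI := isQCoh_push_pull q Z
  haveI := Groth.L16.AffineBC.isQCoh_pullback q Z
  refine Groth.L17.Approx.isFlatOver_of_flat_sec f _ (fun V : X.affineOpens => V.1) (fun V => V.2)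
    (fun y => ?_) fun V => ?_
  · obtain ⟨_, ⟨V, hV, rfl⟩, hyV, -⟩ :=
      X.isBasis_affineOpens.exists_subset_of_mem_open (Set.mem_univ y) isOpen_univ
    exact ⟨⟨V, hV⟩, hyV⟩
  · haveI := BC.flat_sec (q ≫ f) ((Scheme.Modules.pullback q).obj Z)
      (fun w => haveI := hq.iso w; isFlatOverAt_pullback_of_isIso q f Z w (hZ (q w))) (V.2.preimage q)
    exact Module.Flat.of_linearEquiv (secPush q f ((Scheme.Modules.pullback q).obj Z) V.1).symm

theorem isFlatOver_cokernel (hq : IsCover q) [IsAffineHom q] (Z : X.Modules) [Coh.IsQCoh Z]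
    (hZ : FlatMod.IsFlatOver f Z) : FlatMod.IsFlatOver f (cokernel (η q Z)) := by
  intro x
  have hP := isFlatOver_push_pull q f hq Z hZ x
  haveI := isSplitMono_stalk_η hq Z x
  have hS : ((seq q Z).map (Groth.L00.Stk.F X x)).ShortExact := (seq_shortExact hq Z).map_of_exact _
  let r : (Groth.L00.Stk.F X x).obj _ ⟶ (Groth.L00.Stk.F X x).obj Z :=
    retraction ((Groth.L00.Stk.F X x).map (η q Z))
  haveI := hS.epi_g
  let sp := ShortComplex.Splitting.ofExactOfRetraction _ hS.exact r (IsSplitMono.id ((Groth.L00.Stk.F X x).map (η q Z))) hS.epi_g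
  let R := (Spec (CommRingCat.of A)).presheaf.stalk (f x)
  let P := ((Scheme.Modules.pushforward q).obj ((Scheme.Modules.pullback q).obj Z)).presheaf.stalk x
  let C := (cokernel (η q Z)).presheaf.stalk x
  letI : Module R P := FlatMod.moduleStalkOver f _ x
  letI : Module R C := FlatMod.moduleStalkOver f _ x
  haveI : Module.Flat R P := hP
  let i : C →ₗ[R] P :=
    { toFun := sp.s.hom
      map_add' := sp.s.hom.map_add
      map_smul' := fun a m => sp.s.hom.map_smul (f.stalkMap x a) m }
  let s : P →ₗ[R] C :=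
    { toFun := ((seq q Z).map (Groth.L00.Stk.F X x)).g.hom
      map_add' := ((seq q Z).map (Groth.L00.Stk.F X x)).g.hom.map_add
      map_smul' := fun a m => ((seq q Z).map (Groth.L00.Stk.F X x)).g.hom.map_smul (f.stalkMap x a) m }
  exact Module.Flat.of_retract i s (LinearMap.ext fun m => ConcreteCategory.congr_hom sp.s_g m)

end Flat

end Groth.L17.Kun
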