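import Mathlib.RingTheory.Flat.Basic
import Mathlib.RingTheory.TensorProduct.Basic
import Mathlib.LinearAlgebra.TensorProduct.RightExactness
import Groth.Agent.L01.FlatCx.Seq

/-!
The algebra of the inductive step of the Künneth formula.
-/

set_option autoImplicit false
set_option linter.style.haveILetI false

universe u

open scoped TensorProduct

namespace Groth.L17.Kun

open Groth.L01.FlatCx (flat_left rTensor_injective_of_flat_quot)

variable {A : Type u} [CommRing A] {H₀ P₀ Q₀ H₁ : Type u}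
  [AddCommGroup H₀] [AddCommGroup P₀] [AddCommGroup Q₀] [AddCommGroup H₁]
  [Module A H₀] [Module A P₀] [Module A Q₀] [Module A H₁]
  {i : H₀ →ₗ[A] P₀} {p : P₀ →ₗ[A] Q₀} {d : Q₀ →ₗ[A] H₁}

/-- The tensored injection stays injective, and the tensored sequence stays exact. -/
theorem injective_exact_rTensor (hi : Function.Injective i) (hip : Function.Exact i p)
    (hpd : Function.Exact p d) (hd : Function.Surjective d) [Module.Flat A Q₀] [Module.Flat A H₁]
    (N : Type u) [AddCommGroup N] [Module A N] :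
    Function.Injective (i.rTensor N) ∧ Function.Exact (i.rTensor N) (p.rTensor N) := by
  have hex : Function.Exact (LinearMap.range p).subtype d := LinearMap.exact_iff.mpr (by
    rw [Submodule.range_subtype]; exact (LinearMap.exact_iff.1 hpd))
  haveI : Module.Flat A (LinearMap.range p) :=
    flat_left (f := (LinearMap.range p).subtype) (g := d) (Submodule.injective_subtype _) hd hex
  have hip' : Function.Exact i p.rangeRestrict := LinearMap.exact_iff.mpr (by
    rw [LinearMap.ker_rangeRestrict]; exact LinearMap.exact_iff.1 hip)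
  refine ⟨rTensor_injective_of_flat_quot (g := p.rangeRestrict) hi p.surjective_rangeRestrict hip' N, fun z => ?_⟩
  have h2 : Function.Injective ((LinearMap.range p).subtype.rTensor N) :=
    rTensor_injective_of_flat_quot (g := d) (Submodule.injective_subtype _) hd hex N
  rw [← rTensor_exact N hip' p.surjective_rangeRestrict z, ← map_eq_zero_iff _ h2, ← LinearMap.comp_apply,
    ← LinearMap.rTensor_comp]
  exact Iff.rfl

/-- The inductive step. -/
theorem exists_step (hi : Function.Injective i) (hip : Function.Exact i p)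
    (hpd : Function.Exact p d) (hd : Function.Surjective d) [Module.Flat A Q₀] [Module.Flat A H₁]
    {N N' R HQ HZ HP HQ' : Type u} [AddCommGroup N] [AddCommGroup N'] [AddCommGroup R] [AddCommGroup HQ]
    [AddCommGroup HZ] [AddCommGroup HP] [AddCommGroup HQ'] [Module A N] [Module A N'] [Module A R]
    [Module A HQ] [Module A HZ] [Module A HP] [Module A HQ']
    (e : ((Q₀ ⊗[A] N) × R) ≃ₗ[A] HQ) (mP : P₀ ⊗[A] N' →ₗ[A] HP) (hmP : Function.Bijective mP)
    (mQ' : Q₀ ⊗[A] N' →ₗ[A] HQ') (hmQ' : Function.Injective mQ')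
    (mZ : H₀ ⊗[A] N' →ₗ[A] HZ) (a : P₀ ⊗[A] N →ₗ[A] HQ)
    (ha : ∀ x, a x = e (p.rTensor N x, 0))
    (δ : HQ →ₗ[A] HZ) (b : HZ →ₗ[A] HP) (b' : HP →ₗ[A] HQ')
    (haδ : Function.Exact a δ) (hδb : Function.Exact δ b) (hbb' : Function.Exact b b')
    (hb : ∀ x, b (mZ x) = mP (i.rTensor N' x)) (hb' : ∀ x, b' (mP x) = mQ' (p.rTensor N' x)) :
    ∃ e' : ((H₀ ⊗[A] N') × ((H₁ ⊗[A] N) × R)) ≃ₗ[A] HZ, ∀ x, e' (x, 0) = mZ x := by
  obtain ⟨hinj, hex⟩ := injective_exact_rTensor hi hip hpd hd N'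
  let q : HQ →ₗ[A] (H₁ ⊗[A] N) × R := (LinearMap.prodMap (d.rTensor N) LinearMap.id).comp e.symm.toLinearMap
  have hqs : Function.Surjective q := by
    rintro ⟨y, r⟩
    obtain ⟨z, rfl⟩ := LinearMap.rTensor_surjective N hd y
    exact ⟨e (z, r), by simp [q]⟩
  have hker : LinearMap.ker q = LinearMap.ker δ := by
    rw [LinearMap.exact_iff.1 haδ]
    ext z
    obtain ⟨⟨y, r⟩, rfl⟩ := e.surjective z
    simp only [LinearMap.mem_ker, q, LinearMap.coe_comp, LinearEquiv.coe_coe, Function.comp_apply,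
      LinearEquiv.symm_apply_apply, LinearMap.prodMap_apply, LinearMap.id_coe, id_eq, Prod.mk_eq_zero,
      LinearMap.mem_range, ha]
    constructor
    · rintro ⟨hy, rfl⟩
      obtain ⟨x, rfl⟩ := (rTensor_exact N hpd hd y).1 hy
      exact ⟨x, rfl⟩
    · rintro ⟨x, hx⟩
      obtain ⟨h1, h2⟩ := Prod.mk.inj (e.injective hx)
      exact ⟨(rTensor_exact N hpd hd y).2 ⟨x, h1⟩, h2.symm⟩
  let δ' : (H₁ ⊗[A] N) × R →ₗ[A] HZ :=
    ((LinearMap.ker q).liftQ δ hker.le).comp (q.quotKerEquivOfSurjective hqs).symm.toLinearMap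
  have hδ' : ∀ z, δ' (q z) = δ z := fun z => by
    show (LinearMap.ker q).liftQ δ hker.le ((q.quotKerEquivOfSurjective hqs).symm (q z)) = δ z
    have h : (q.quotKerEquivOfSurjective hqs).symm (q z) = (LinearMap.ker q).mkQ z :=
      (LinearEquiv.symm_apply_eq _).2 (LinearMap.quotKerEquivOfSurjective_apply_mk q hqs z).symm
    rw [h]
    rfl
  let Φ : (H₀ ⊗[A] N') × ((H₁ ⊗[A] N) × R) →ₗ[A] HZ := LinearMap.coprod mZ δ'
  refine ⟨LinearEquiv.ofBijective Φ ⟨?_, fun h => ?_⟩, fun x => ?_⟩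
  · rw [injective_iff_map_eq_zero]
    rintro ⟨x, y⟩ hxy
    obtain ⟨z, rfl⟩ := hqs y
    have hxy' : mZ x + δ z = 0 := by rw [← hδ' z]; exact hxy
    have h0 := congrArg b hxy'
    rw [map_add, (hδb _).2 ⟨z, rfl⟩, add_zero, map_zero, hb] at h0
    have hx : x = 0 := hinj (hmP.1 (h0.trans (map_zero _).symm) |>.trans (map_zero _).symm)
    subst hx
    rw [map_zero, zero_add] at hxy'
    have hz : z ∈ LinearMap.ker q := hker.ge hxy'
    rw [LinearMap.mem_ker.1 hz]
    rfl
  · obtain ⟨w, hw⟩ := hmP.2 (b h)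
    have h1 : p.rTensor N' w = 0 := hmQ' (by
      rw [map_zero, ← hb', hw]
      exact (hbb' _).2 ⟨h, rfl⟩)
    obtain ⟨x, hx⟩ := (hex w).1 h1
    have h2 : b (h - mZ x) = 0 := by rw [map_sub, hb, hx, hw, sub_self]
    obtain ⟨z, hz⟩ := (hδb _).1 h2
    refine ⟨(x, q z), ?_⟩
    show mZ x + δ' (q z) = h
    rw [hδ', hz, add_sub_cancel]
  · show mZ x + δ' 0 = mZ x
    rw [map_zero, add_zero]

/-- Injectivity of the comparison map. -/
theorem injective_comparison (hi : Function.Injective i) (hip : Function.Exact i p)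
    (hpd : Function.Exact p d) (hd : Function.Surjective d) [Module.Flat A Q₀] [Module.Flat A H₁]
    {N HZ HP : Type u} [AddCommGroup N] [AddCommGroup HZ] [AddCommGroup HP] [Module A N] [Module A HZ]
    [Module A HP] (mP : P₀ ⊗[A] N →ₗ[A] HP) (hmP : Function.Bijective mP) (mZ : H₀ ⊗[A] N →ₗ[A] HZ)
    (b : HZ →ₗ[A] HP) (hb : ∀ x, b (mZ x) = mP (i.rTensor N x)) : Function.Injective mZ := fun x y h =>
  (injective_exact_rTensor hi hip hpd hd N).1 (hmP.1 (by rw [← hb, ← hb, h]))

end Groth.L17.Kun
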