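import Groth.Agent.L17.BC.CechFlat
import Mathlib.AlgebraicGeometry.Morphisms.Affine

/-!
Global sections of a flat module with flat higher cohomology are flat.
-/

set_option autoImplicit false
set_option linter.style.haveILetI false
set_option linter.unusedSectionVars false
set_option backward.isDefEq.respectTransparency false

universe u

open CategoryTheory CategoryTheory.Limits AlgebraicGeometry TopologicalSpace Opposite
open scoped TensorProduct

noncomputable section

namespace Groth.L17.Kun

open Groth.L01.FlatCx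

variable {A : Type u} [CommRing A]

/-- Flatness of the zeroth homology of a complex starting in degree zero. -/
theorem flat_homology_zero (P : CochainComplex (ModuleCat.{u} A) ℤ) (hP : ∀ i, Module.Flat A (P.X i)) (N : ℤ)
    (hN : ∀ j, N ≤ j → Module.Flat A (Coker P (j - 1) j)) (hH : ∀ j, 1 ≤ j → Module.Flat A (P.homology j))
    [Subsingleton (P.X (-1))] : Module.Flat A (P.homology 0) := by
  have hr : ∀ j, Module.Flat A (Coker P (j - 1) j) → Module.Flat A (LinearMap.range (dd P (j - 1) j)) :=
    fun j hQ => by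
      haveI := hP j
      haveI := hQ
      exact flat_left (f := (LinearMap.range (dd P (j - 1) j)).subtype) (g := (LinearMap.range (dd P (j - 1) j)).mkQ)
        (Submodule.injective_subtype _) (Submodule.mkQ_surjective _) (LinearMap.exact_subtype_mkQ _)
  have hC : ∀ (k : ℕ) (j : ℤ), 1 ≤ j → N ≤ j + k → Module.Flat A (Coker P (j - 1) j) := by
    intro k
    induction k with
    | zero => exact fun j _ hj => hN j (by omega)
    | succ k ih =>
      intro j hj1 hj
      have h1 := hr (j + 1) (ih (j + 1) (by omega) (by push_cast at hj ⊢; omega))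
      rw [add_sub_cancel_right] at h1
      haveI := h1
      obtain ⟨φ, hφ, hex⟩ := exists_homology_toCoker P (i := j - 1) (j := j) (k := j + 1)
        ((ComplexShape.up ℤ).prev_eq' (by simp)) ((ComplexShape.up ℤ).next_eq' rfl)
      haveI : Module.Flat A ((CohIII.TFun P j).obj (ModuleCat.of A A) : Type u) :=
        haveI := hH j hj1
        Module.Flat.of_linearEquiv (unitEquiv P j)
      exact flat_middle hφ (qr_surjective P (j - 1) j (j + 1)) hex
  have h1 : Module.Flat A (LinearMap.range (dd P 0 1)) := by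
    have h := hr 1 (hC (N - 1).toNat 1 le_rfl (by omega))
    rwa [show (1 : ℤ) - 1 = 0 from rfl] at h
  haveI := h1
  haveI : Module.Flat A (Coker P (-1) 0) := by
    haveI := hP 0
    have e : LinearMap.range (dd P (-1) 0) = ⊥ :=
      LinearMap.range_eq_bot.2 (LinearMap.ext fun x => by rw [Subsingleton.elim x 0, map_zero, map_zero])
    exact Module.Flat.of_linearEquiv (Submodule.quotEquivOfEqBot _ e)
  obtain ⟨φ, hφ, hex⟩ := exists_homology_toCoker P (i := (-1 : ℤ)) (j := 0) (k := 1)
    ((ComplexShape.up ℤ).prev_eq' (by simp)) ((ComplexShape.up ℤ).next_eq' rfl)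
  haveI : Module.Flat A ((CohIII.TFun P 0).obj (ModuleCat.of A A) : Type u) :=
    flat_left hφ (qr_surjective P (-1) 0 1) hex
  exact Module.Flat.of_linearEquiv (unitEquiv P 0).symm

variable {X : Scheme.{u}} (f : X ⟶ Spec (CommRingCat.of A))

/-- Affine intersections from an affine diagonal over an affine base. -/
theorem isAffineOpen_inf [IsAffineHom (pullback.diagonal f)] {U V : X.Opens} (hU : IsAffineOpen U)
    (hV : IsAffineOpen V) : IsAffineOpen (U ⊓ V) := by
  haveI : IsAffine U.toScheme := hU
  haveI : IsAffineHom (U.ι ≫ f) := isAffineHom_of_isAffine _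
  haveI : MorphismProperty.HasOfPostcompProperty @IsAffineHom (MorphismProperty.diagonal @IsAffineHom) :=
    MorphismProperty.hasOfPostcompProperty_iff_le_diagonal.mpr le_rfl
  haveI : IsAffineHom U.ι :=
    MorphismProperty.of_postcomp @IsAffineHom (W' := MorphismProperty.diagonal @IsAffineHom) U.ι f
      (show IsAffineHom (pullback.diagonal f) from inferInstance) inferInstance
  have h2 := (hV.preimage U.ι).image_of_isOpenImmersion U.ι
  rwa [Scheme.Hom.image_preimage_eq_opensRange_inf, Scheme.Opens.opensRange_ι] at h2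

/-- An affine cover with affine intersections. -/
theorem exists_cover [CompactSpace X] [IsAffineHom (pullback.diagonal f)] :
    ∃ (t : ℕ) (U : ULift.{u} (Fin t) → X.Opens), ⨆ i, U i = ⊤ ∧
      ∀ (n : ℕ) (a : Fin (n + 1) → ULift.{u} (Fin t)), IsAffineOpen (⨅ k, U (a k)) := by
  obtain ⟨s, hs⟩ := isCompact_univ.elim_finite_subcover (fun V : X.affineOpens => (V.1 : Set X))
    (fun V => V.1.2) fun x _ => by
      obtain ⟨V, hV, hxV, -⟩ := X.isBasis_affineOpens.exists_subset_of_mem_open (Set.mem_univ x) isOpen_univ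
      obtain ⟨V', hV', rfl⟩ := hV
      exact Set.mem_iUnion.2 ⟨⟨V', hV'⟩, hxV⟩
  let e : ULift.{u} (Fin s.card) ≃ s := Equiv.ulift.trans s.equivFin.symm
  refine ⟨s.card, fun i => (e i).1.1, top_unique fun x _ => ?_, fun n a => ?_⟩
  · obtain ⟨V, hV, hx⟩ := Set.mem_iUnion₂.1 (hs (Set.mem_univ x))
    refine Opens.mem_iSup.2 ⟨e.symm ⟨V, hV⟩, ?_⟩
    show x ∈ (e (e.symm ⟨V, hV⟩)).1.1
    rw [e.apply_symm_apply]
    exact hx
  · induction n with
    | zero =>
      simp only [ciInf_unique (ι := Fin 1)]
      exact (e _).1.2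
    | succ n ih =>
      rw [← Finset.inf_univ_eq_iInf, Fin.univ_succ, Finset.inf_cons, Finset.inf_map, Finset.inf_univ_eq_iInf]
      exact isAffineOpen_inf f (e (a 0)).1.2 (ih fun k => a k.succ)

/-- Global sections are flat if the higher cohomology is. -/
theorem flat_HH_zero [X.Over (Spec (CommRingCat.of A))] [CompactSpace X]
    [IsAffineHom (pullback.diagonal (X ↘ Spec (CommRingCat.of A)))] (F : X.Modules) [Coh.IsQCoh F]
    (hfl : FlatMod.IsFlatOver (X ↘ Spec (CommRingCat.of A)) F) (hH : ∀ p : ℕ, Module.Flat A (Coh.HH X F (p + 1))) :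
    Module.Flat A (Coh.HH X F 0) := by
  let f := X ↘ Spec (CommRingCat.of A)
  obtain ⟨t, U, hcov, haff⟩ := exists_cover f
  let P := BC.K (Coh.toGlobal f) F U
  haveI : Subsingleton (P.X (-1)) := BC.subsingleton_C _ F U (by omega)
  have hP : ∀ i, Module.Flat A (P.X i) := BC.flat_K f U F (fun V hV => BC.flat_sec f F hfl hV) haff
  have hH' : ∀ j : ℤ, 1 ≤ j → Module.Flat A (P.homology j) := fun j hj => by
    obtain ⟨m, rfl⟩ : ∃ m : ℕ, j = (m + 1 : ℕ) := ⟨(j - 1).toNat, by omega⟩
    obtain ⟨em⟩ := BC.exists_homology_equiv (Coh.toGlobal f) F U hcov haff (m + 1)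
    haveI := hH m
    exact Module.Flat.of_linearEquiv em
  have hN : ∀ j, (Nat.card (ULift.{u} (Fin t)) : ℤ) ≤ j → Module.Flat A (Coker P (j - 1) j) :=
    fun j hj => by
      refine (preservesMono_iff P (i := j - 1) (j := j)
        ((ComplexShape.up ℤ).prev_eq' (by simp)) hP).1 ⟨fun {M N} g _ => ?_⟩
      rw [ModuleCat.mono_iff_injective]
      haveI := ModuleCat.subsingleton_of_isZero (BC.isZero_T_K f U F hcov haff M j hj)
      exact fun a a' _ => Subsingleton.elim (α := CohIII.T P j M) a a'
  haveI := flat_homology_zero P hP _ hN hH'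
  obtain ⟨e⟩ := BC.exists_homology_equiv (Coh.toGlobal f) F U hcov haff 0
  exact Module.Flat.of_linearEquiv e.symm

end Groth.L17.Kun
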