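import Groth.Agent.L17.Kun.AffinePush
import Groth.Agent.L17.Kun.Cover
import Groth.Agent.L17.Kun.Alg
import Groth.Agent.L17.Kun.H0Flat
import Groth.Agent.L16.Devissage

/-!
The Künneth formula over an affine base.
-/

set_option autoImplicit false
set_option linter.style.haveILetI false
set_option linter.unusedSectionVars false
set_option backward.isDefEq.respectTransparency false
set_option backward.isDefEq.respectTransparency.types false

universe u

open CategoryTheory CategoryTheory.Limits AlgebraicGeometry TopologicalSpace Opposite Abelian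
open scoped TensorProduct
noncomputable section

namespace Groth.L17.Kun

open Groth.L00.Tensor (tensorMap tensorLeftF)
open Groth.L17.FlatPair (E preservesColimits_E additive_E)
open Groth.L16.CohLinear (hmap tm overLin delta hmap_comp hmap_id exact_hmap_hmap exact_hmap_delta exact_delta_hmap)

attribute [local instance] additive_E preservesColimits_E

section Exact

variable {X₁ X₂ X' : Scheme.{u}} (p₁ : X' ⟶ X₁) (p₂ : X' ⟶ X₂) (G : X₂.Modules) {W : Scheme.{u}} {q : W ⟶ X₁}

theorem mono_Fn_η (hq : IsCover q) (Z : X₁.Modules) : Mono ((Fn p₁ p₂ G).map (η q Z)) := by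
  refine (Groth.L21.Mod.mono_iff_stalk_injective _).2 fun x => ?_
  haveI := isSplitMono_stalk_η hq Z (p₁ x)
  let P := (Scheme.Modules.pullback p₂).obj G
  let T := Groth.L00.Stk.F X₁ (p₁ x) ⋙ ModuleCat.extendScalars (Groth.L00.PullStalk.φ p₁ x)
  haveI : IsSplitMono (T.map (η q Z)) := inferInstanceAs (IsSplitMono
    ((ModuleCat.extendScalars (Groth.L00.PullStalk.φ p₁ x)).map ((Groth.L00.Stk.F X₁ (p₁ x)).map (η q Z))))
  have hnat : (Groth.L00.Stk.F X' x).map ((Scheme.Modules.pullback p₁).map (η q Z)) =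
      (Groth.L00.PullStalk.stalkIso p₁ x).hom.app Z ≫ T.map (η q Z) ≫
        (Groth.L00.PullStalk.stalkIso p₁ x).inv.app _ := by
    exact (NatIso.naturality_2 (Groth.L00.PullStalk.stalkIso p₁ x) (η q Z)).symm
  haveI hk : IsSplitMono ((Groth.L00.Stk.F X' x).map ((Scheme.Modules.pullback p₁).map (η q Z))) := by
    rw [hnat]
    exact IsSplitMono.mk' ⟨(Groth.L00.PullStalk.stalkIso p₁ x).hom.app _ ≫ retraction (T.map (η q Z)) ≫
      (Groth.L00.PullStalk.stalkIso p₁ x).inv.app _, by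
      simp only [Category.assoc, Iso.inv_hom_id_app_assoc]
      rw [IsSplitMono.id_assoc]
      exact Iso.hom_inv_id_app _ _⟩
  let k := (Groth.L00.Stk.F X' x).map ((Scheme.Modules.pullback p₁).map (η q Z))
  have h1 : (retraction k).hom.comp k.hom = LinearMap.id := congrArg ModuleCat.Hom.hom (IsSplitMono.id k)
  have e1 : ((Groth.L00.Stk.F X' x).map (𝟙 P)).hom = LinearMap.id := by
    rw [CategoryTheory.Functor.map_id]; rfl
  have hinj : Function.Injective
      (TensorProduct.map (LinearMap.id : (Groth.L00.Stk.F X' x).obj P →ₗ[_] _) k.hom) :=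
    Function.LeftInverse.injective (g := TensorProduct.map LinearMap.id (retraction k).hom) fun z => by
      rw [← LinearMap.comp_apply, ← TensorProduct.map_comp, LinearMap.comp_id, h1, TensorProduct.map_id,
        LinearMap.id_apply]
  have hn := Groth.L00.Stk.τ_natural x (𝟙 P) ((Scheme.Modules.pullback p₁).map (η q Z))
  intro a b hab
  obtain ⟨a, rfl⟩ := (Groth.L00.Stk.τ x P ((Scheme.Modules.pullback p₁).obj Z)).toLinearEquiv.surjective a
  obtain ⟨b, rfl⟩ := (Groth.L00.Stk.τ x P ((Scheme.Modules.pullback p₁).obj Z)).toLinearEquiv.surjective b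
  refine congrArg _ (hinj ?_)
  apply (Groth.L00.Stk.τ x P ((Scheme.Modules.pullback p₁).obj
    ((Scheme.Modules.pushforward q).obj ((Scheme.Modules.pullback q).obj Z)))).toLinearEquiv.injective
  have ha := ConcreteCategory.congr_hom hn a
  have hb := ConcreteCategory.congr_hom hn b
  simp only [e1] at ha hb
  exact ha.trans (hab.trans hb.symm)

/-- The sequence stays exact. -/
theorem shortExact_Fn (hq : IsCover q) (Z : X₁.Modules) : ((seq q Z).map (Fn p₁ p₂ G)).ShortExact := by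
  haveI := (seq_shortExact hq Z).epi_g
  exact
    { exact := ((seq q Z).map (Fn p₁ p₂ G)).exact_of_g_is_cokernel
        (CokernelCofork.mapIsColimit _ (seq_shortExact hq Z).gIsCokernel (Fn p₁ p₂ G))
      mono_f := mono_Fn_η p₁ p₂ G hq Z
      epi_g := inferInstanceAs (Epi ((Fn p₁ p₂ G).map (cokernel.π (η q Z)))) }

end Exact

variable {A : Type u} [CommRing A] {X₁ X₂ X' : Scheme.{u}} [X₁.Over (Spec (CommRingCat.of A))]
  [X₂.Over (Spec (CommRingCat.of A))] [X'.Over (Spec (CommRingCat.of A))] (p₁ : X' ⟶ X₁) (p₂ : X' ⟶ X₂)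
  (hp : IsPullback p₁ p₂ (X₁ ↘ Spec (CommRingCat.of A)) (X₂ ↘ Spec (CommRingCat.of A)))
  (h₁ : p₁ ≫ (X₁ ↘ Spec (CommRingCat.of A)) = X' ↘ Spec (CommRingCat.of A))
  (h₂ : p₂ ≫ (X₂ ↘ Spec (CommRingCat.of A)) = X' ↘ Spec (CommRingCat.of A))
  (G : X₂.Modules) [Coh.IsQCoh G] {W : Scheme.{u}} [IsAffine W] (q : W ⟶ X₁) [IsAffineHom q]
  [CompactSpace X₁] [QuasiSeparatedSpace X₁] [CompactSpace X₂] [QuasiSeparatedSpace X₂] [QuasiSeparatedSpace X']
  [QuasiCompact p₂]

include hp in
/-- The comparison is bijective for direct images from the affine cover. -/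
theorem bijective_μ_push (M : W.Modules) [Coh.IsQCoh M]
    [Module.Flat A (Coh.HH X₁ ((Scheme.Modules.pushforward q).obj M) 0)] (n : ℕ) :
    Function.Bijective (μ p₁ p₂ G h₁ h₂ ((Scheme.Modules.pushforward q).obj M) n) := by
  let P := (Scheme.Modules.pushforward q).obj M
  let ρ := SchemeTheta.actEnd (Coh.toGlobal (X₂ ↘ Spec (CommRingCat.of A))) G
  let φ := fam (A := A) p₁ p₂ G P
  let T : ∀ (U : X₂.Opens) (k : ℕ), _ := fun U k =>
    SheafTheta.Th (X := X₂.toTopCat) (X' := X'.toTopCat) p₂.base ρ φ (fam_smul p₁ p₂ G h₁ h₂ P) (U := U)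
      (U' := p₂ ⁻¹ᵁ U) le_rfl k
  have key : ∀ k, Function.Bijective (T ⊤ k) := by
    refine SchemeTheta.qc_induction (fun U => ∀ k, Function.Bijective (T U k)) (fun U hU k => ?_)
      (fun U V hU hV hI k => ?_) isCompact_univ
    · cases k with
      | zero =>
        obtain ⟨b, hb, hbe⟩ := bijOn_push p₁ p₂ hp h₁ h₂ G q M hU
        refine SheafTheta.bijective_Th_zero (X := X₂.toTopCat) (X' := X'.toTopCat) p₂.base ρ φ
          (fam_smul p₁ p₂ G h₁ h₂ P) le_rfl
          (M := BC.Sec (Coh.toGlobal (X₂ ↘ Spec (CommRingCat.of A))) G U) (AddEquiv.refl Γ(G, U))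
          (fun a m => ?_) b (fun s m => ?_) hb
        · exact (Coh.smulAb_app G (Coh.toGlobal (X₂ ↘ Spec (CommRingCat.of A)) a) (op U) m).symm
        · exact (hbe s m).trans (Groth.L18.Frame.rs_self _ le_rfl _).symm
      | succ k =>
        exact SheafTheta.bijective_Th_of_zero _ _ φ _ _ _ (hu_affine_eq_zero G hU k)
          (hu_Fn_push_eq_zero p₁ p₂ hp G q M hU k)
    · have e1 : p₂ ⁻¹ᵁ (U ⊓ V) = p₂ ⁻¹ᵁ U ⊓ p₂ ⁻¹ᵁ V := rfl
      have e2 : p₂ ⁻¹ᵁ (U ⊔ V) = p₂ ⁻¹ᵁ U ⊔ p₂ ⁻¹ᵁ V := rfl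
      exact SheafTheta.bijective_Th_congr _ _ φ _ rfl e2.symm _ _ k
        (SheafTheta.bijective_Th_sup (X := X₂.toTopCat) (X' := X'.toTopCat) p₂.base ρ φ
          (fam_smul p₁ p₂ G h₁ h₂ P) le_rfl le_rfl e1.ge e2.ge hU hV
          (fun j => SheafTheta.bijective_Th_congr _ _ φ _ rfl e1 _ _ j (hI j)) k)
  exact bijective_cmp _ _ _ _ _ _ _ _ _ _ _
    (SheafTheta.bijective_Th_congr _ _ φ _ rfl (show p₂ ⁻¹ᵁ ⊤ = ⊤ from rfl) _ (show (⊤ : X'.Opens) ≤ p₂ ⁻¹ᵁ ⊤ from fun _ _ => trivial) n (key n))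

/-- Modules to which the induction applies. -/
structure Good (Z : X₁.Modules) : Prop where
  qcoh : Coh.IsQCoh Z
  flat : FlatMod.IsFlatOver (X₁ ↘ Spec (CommRingCat.of A)) Z
  flatH : ∀ p : ℕ, Module.Flat A (Coh.HH X₁ Z p)

variable {q}

theorem subsingleton_HH_push (M : W.Modules) [Coh.IsQCoh M] (k : ℕ) :
    Subsingleton (Coh.HH X₁ ((Scheme.Modules.pushforward q).obj M) (k + 1)) := by
  refine subsingleton_of_forall_eq 0 fun x => (eH _ (k + 1)).injective ?_
  rw [map_zero]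
  exact hu_push_eq_zero q M (V := (⊤ : X₁.Opens)) isCompact_univ (isAffineOpen_top W) k _

theorem flat_HH_push (hq : IsCover q) (Z : X₁.Modules) (hZ : Good (A := A) Z) :
    Module.Flat A (Coh.HH X₁ ((Scheme.Modules.pushforward q).obj ((Scheme.Modules.pullback q).obj Z)) 0) := by
  haveI := hZ.qcoh
  haveI := Groth.L16.AffineBC.isQCoh_pullback q Z
  let f₁ := X₁ ↘ Spec (CommRingCat.of A)
  haveI : Module.Flat A (BC.Sec (Coh.toGlobal (q ≫ f₁)) ((Scheme.Modules.pullback q).obj Z) (q ⁻¹ᵁ ⊤)) :=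
    BC.flat_sec (q ≫ f₁) ((Scheme.Modules.pullback q).obj Z)
      (fun w => haveI := hq.iso w; isFlatOverAt_pullback_of_isIso q f₁ Z w (hZ.flat (q w)))
      (isAffineOpen_top W)
  exact Module.Flat.of_linearEquiv ((sec0 A _).trans (secPush q f₁ ((Scheme.Modules.pullback q).obj Z) ⊤).symm)

variable [IsAffineHom (pullback.diagonal (X₁ ↘ Spec (CommRingCat.of A)))]

/-- The connecting maps in positive degrees are bijective. -/
theorem bijective_delta (hq : IsCover q) (Z : X₁.Modules) [Coh.IsQCoh Z] (p : ℕ) :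
    Function.Bijective (delta (seq_shortExact hq Z) (p + 1)) := by
  haveI := Groth.L16.AffineBC.isQCoh_pullback q Z
  haveI : ∀ k, Subsingleton (Coh.HH X₁ (seq q Z).X₂ (k + 1)) := fun k =>
    subsingleton_HH_push ((Scheme.Modules.pullback q).obj Z) k
  refine ⟨(injective_iff_map_eq_zero _).2 fun x hx => ?_,
    fun y => (exact_delta_hmap (seq_shortExact hq Z) (p + 1) y).1 (Subsingleton.elim _ _)⟩
  obtain ⟨w, rfl⟩ := (exact_hmap_delta (seq_shortExact hq Z) (p + 1) x).1 hx
  rw [Subsingleton.elim w 0, map_zero]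

/-- The degree shift. -/
def shift (hq : IsCover q) (Z : X₁.Modules) [Coh.IsQCoh Z] (p : ℕ) :
    Coh.HH X₁ (cokernel (η q Z)) (p + 1) ≃ₗ[A] Coh.HH X₁ Z (p + 2) :=
  LinearEquiv.ofBijective (overLin A (delta (seq_shortExact hq Z) (p + 1))) (bijective_delta hq Z p)

theorem good_next (hq : IsCover q) (Z : X₁.Modules) (hZ : Good (A := A) Z) :
    Good (A := A) (cokernel (η q Z)) := by
  haveI := hZ.qcoh
  haveI hP := isQCoh_push_pull q Z
  haveI hQ : Coh.IsQCoh (cokernel (η q Z)) := Groth.L16.Devissage.isQCoh_cokernel (η q Z)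
  have hfl := isFlatOver_cokernel q (X₁ ↘ Spec (CommRingCat.of A)) hq Z hZ.flat
  have hH : ∀ p, Module.Flat A (Coh.HH X₁ (cokernel (η q Z)) (p + 1)) := fun p => by
    haveI := hZ.flatH (p + 2)
    exact Module.Flat.of_linearEquiv (shift hq Z p)
  exact ⟨hQ, hfl, fun p => match p with
    | 0 => flat_HH_zero _ hfl hH
    | p + 1 => hH p⟩

theorem exact₀ (hq : IsCover q) (Z : X₁.Modules) :
    Function.Exact (overLin A (hmap (η q Z) 0)) (overLin A (hmap (cokernel.π (η q Z)) 0)) :=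
  exact_hmap_hmap (seq_shortExact hq Z) 0

theorem exactδ₀ (hq : IsCover q) (Z : X₁.Modules) :
    Function.Exact (overLin A (hmap (cokernel.π (η q Z)) 0)) (overLin A (delta (seq_shortExact hq Z) 0)) :=
  exact_hmap_delta (seq_shortExact hq Z) 0

end Groth.L17.Kun
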