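import Groth.Agent.L17.Kun.Cover
import Mathlib.AlgebraicGeometry.Limits

/-!
An affine scheme mapping onto a quasi-compact scheme by local isomorphisms.
-/

set_option autoImplicit false
set_option linter.style.haveILetI false

universe u

open CategoryTheory CategoryTheory.Limits AlgebraicGeometry

noncomputable section

namespace Groth.L17.Kun

/-- An affine scheme mapping affinely onto `X` by local isomorphisms. -/
theorem exists_affine_isCover {A : CommRingCat.{u}} {X : Scheme.{u}} [CompactSpace X] (f : X ⟶ Spec A)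
    [IsAffineHom (pullback.diagonal f)] :
    ∃ (W : Scheme.{u}) (_ : IsAffine W) (q : W ⟶ X), IsAffineHom q ∧ IsCover q := by
  let 𝒰 := X.affineCover.finiteSubcover
  haveI : ∀ i, IsAffine (𝒰.X i) := fun i => inferInstanceAs (IsAffine (X.affineCover.X _))
  refine ⟨∐ 𝒰.X, inferInstance, Sigma.desc 𝒰.f, ?_, ?_⟩
  · haveI : MorphismProperty.HasOfPostcompProperty @IsAffineHom (MorphismProperty.diagonal @IsAffineHom) :=
      MorphismProperty.hasOfPostcompProperty_iff_le_diagonal.mpr le_rfl
    exact MorphismProperty.of_postcomp @IsAffineHom (W' := MorphismProperty.diagonal @IsAffineHom) _ f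
      (show IsAffineHom (pullback.diagonal f) from inferInstance) (isAffineHom_of_isAffine _)
  · constructor
    · intro x
      obtain ⟨i, y, rfl⟩ := 𝒰.exists_eq x
      exact ⟨Sigma.ι 𝒰.X i y, by rw [← Scheme.Hom.comp_apply, Sigma.ι_desc]⟩
    · intro w
      obtain ⟨i, y, rfl⟩ := (AlgebraicGeometry.sigmaOpenCover 𝒰.X).exists_eq w
      show IsIso ((Sigma.desc 𝒰.f).stalkMap (Sigma.ι 𝒰.X i y))
      have h : IsIso ((Sigma.ι 𝒰.X i ≫ Sigma.desc 𝒰.f).stalkMap y) := by
        rw [Sigma.ι_desc]; infer_instance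
      rw [Scheme.Hom.stalkMap_comp] at h
      have hc : IsIso ((Sigma.ι 𝒰.X i).stalkMap y) := inferInstance
      exact @IsIso.of_isIso_comp_right _ _ _ _ _ ((Sigma.desc 𝒰.f).stalkMap (Sigma.ι 𝒰.X i y))
        ((Sigma.ι 𝒰.X i).stalkMap y) hc h

end Groth.L17.Kun
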