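import Groth.Agent.L17.Kun.Alg
import Mathlib.LinearAlgebra.Pi

/-!
The induction of the Künneth formula, abstractly.
-/

set_option autoImplicit false
set_option linter.style.haveILetI false

universe u v

open scoped TensorProduct

namespace Groth.L17.Kun

variable {A : Type u} [CommRing A]

/-- Modules in equal degrees. -/
def congrN (N : ℕ → Type u) [∀ m, AddCommGroup (N m)] [∀ m, Module A (N m)] {a b : ℕ} (h : a = b) :
    N a ≃ₗ[A] N b := by
  subst h; exact LinearEquiv.refl A _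

/-- The abstract induction. -/
theorem exists_split_abstract {I : Type v} (next : I → I) (H K KP : I → ℕ → Type u) (P : I → Type u)
    (N : ℕ → Type u) [∀ Z m, AddCommGroup (H Z m)] [∀ Z m, Module A (H Z m)] [∀ Z m, AddCommGroup (K Z m)]
    [∀ Z m, Module A (K Z m)] [∀ Z m, AddCommGroup (KP Z m)] [∀ Z m, Module A (KP Z m)]
    [∀ Z, AddCommGroup (P Z)] [∀ Z, Module A (P Z)] [∀ m, AddCommGroup (N m)] [∀ m, Module A (N m)]
    [∀ Z m, Module.Flat A (H Z m)]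
    (i : ∀ Z, H Z 0 →ₗ[A] P Z) (p : ∀ Z, P Z →ₗ[A] H (next Z) 0) (d : ∀ Z, H (next Z) 0 →ₗ[A] H Z 1)
    (hi : ∀ Z, Function.Injective (i Z)) (hip : ∀ Z, Function.Exact (i Z) (p Z))
    (hpd : ∀ Z, Function.Exact (p Z) (d Z)) (hd : ∀ Z, Function.Surjective (d Z))
    (shift : ∀ Z m, H (next Z) (m + 1) ≃ₗ[A] H Z (m + 2))
    (μ : ∀ Z m, H Z 0 ⊗[A] N m →ₗ[A] K Z m) (μP : ∀ Z m, P Z ⊗[A] N m →ₗ[A] KP Z m)
    (hμP : ∀ Z m, Function.Bijective (μP Z m))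
    (b : ∀ Z m, K Z m →ₗ[A] KP Z m) (b' : ∀ Z m, KP Z m →ₗ[A] K (next Z) m)
    (δ : ∀ Z m, K (next Z) m →ₗ[A] K Z (m + 1))
    (hb : ∀ Z m x, b Z m (μ Z m x) = μP Z m ((i Z).rTensor (N m) x))
    (hb' : ∀ Z m x, b' Z m (μP Z m x) = μ (next Z) m ((p Z).rTensor (N m) x))
    (hb₀ : ∀ Z, Function.Injective (b Z 0))
    (hbb' : ∀ Z m, Function.Exact (b Z m) (b' Z m)) (hb'δ : ∀ Z m, Function.Exact (b' Z m) (δ Z m))
    (hδb : ∀ Z m, Function.Exact (δ Z m) (b Z (m + 1))) (n : ℕ) (Z : I) :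
    Nonempty ((∀ q : Fin (n + 1), H Z q.1 ⊗[A] N (n - q.1)) ≃ₗ[A] K Z n) := by
  have hinj : ∀ Z m, Function.Injective (μ Z m) := fun Z m =>
    injective_comparison (hi Z) (hip Z) (hpd Z) (hd Z) (μP Z m) (hμP Z m) (μ Z m) (b Z m) (hb Z m)
  suffices h : ∀ (n : ℕ) (Z : I),
      ∃ e : ((H Z 0 ⊗[A] N n) × (∀ q : Fin n, H Z (q.1 + 1) ⊗[A] N (n - (q.1 + 1)))) ≃ₗ[A] K Z n,
        ∀ x, e (x, 0) = μ Z n x by
    obtain ⟨e, -⟩ := h n Z
    exact ⟨(Fin.consLinearEquiv A fun q : Fin (n + 1) => H Z q.1 ⊗[A] N (n - q.1)).symm.trans e⟩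
  intro n
  induction n with
  | zero =>
    intro Z
    have hsurj : Function.Surjective (μ Z 0) := fun h => by
      obtain ⟨w, hw⟩ := (hμP Z 0).2 (b Z 0 h)
      have h1 : (p Z).rTensor (N 0) w = 0 := hinj (next Z) 0 (by
        rw [map_zero, ← hb', hw]
        exact (hbb' Z 0 _).2 ⟨h, rfl⟩)
      obtain ⟨x, hx⟩ := ((injective_exact_rTensor (hi Z) (hip Z) (hpd Z) (hd Z) _).2 w).1 h1
      exact ⟨x, hb₀ Z (by rw [hb, hx, hw])⟩
    exact ⟨LinearEquiv.prodUnique.trans (LinearEquiv.ofBijective _ ⟨hinj Z 0, hsurj⟩), fun x => rfl⟩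
  | succ n ih =>
    intro Z
    obtain ⟨e, he⟩ := ih (next Z)
    let a := (μ (next Z) n).comp ((p Z).rTensor (N n))
    have haδ : Function.Exact a (δ Z n) := fun z => by
      refine (hb'δ Z n z).trans ⟨?_, ?_⟩
      · rintro ⟨w, rfl⟩
        obtain ⟨x, rfl⟩ := (hμP Z n).2 w
        exact ⟨x, (hb' Z n x).symm⟩
      · rintro ⟨x, rfl⟩
        exact ⟨μP Z n x, hb' Z n x⟩
    obtain ⟨e', he'⟩ := exists_step (hi Z) (hip Z) (hpd Z) (hd Z) e (μP Z (n + 1)) (hμP Z (n + 1))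
      (μ (next Z) (n + 1)) (hinj (next Z) (n + 1)) (μ Z (n + 1)) a (fun x => (he _).symm) (δ Z n) (b Z (n + 1))
      (b' Z (n + 1)) haδ (hδb Z n) (hbb' Z (n + 1)) (hb Z (n + 1)) (hb' Z (n + 1))
    let c := (Fin.consLinearEquiv A fun q : Fin (n + 1) => H Z (q.1 + 1) ⊗[A] N (n + 1 - (q.1 + 1))).symm.trans
      (LinearEquiv.prodCongr (TensorProduct.congr (LinearEquiv.refl A (H Z 1))
          (congrN (A := A) N (show n + 1 - (0 + 1) = n by omega)))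
        (LinearEquiv.piCongrRight fun q : Fin n => TensorProduct.congr (shift Z q.1).symm
          (congrN (A := A) N (show n + 1 - (q.1 + 1 + 1) = n - (q.1 + 1) by omega))))
    refine ⟨((LinearEquiv.refl A _).prodCongr c).trans e', fun x => ?_⟩
    show e' (x, c 0) = _
    rw [map_zero]
    exact he' x

end Groth.L17.Kun
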