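import Groth.Agent.L17.Kun.Maps
import Groth.Agent.L17.Kun.Induct
import Groth.Agent.L17.Kun.AffCover

set_option autoImplicit false
set_option linter.style.haveILetI false
set_option linter.unusedSectionVars false
set_option backward.isDefEq.respectTransparency false
set_option backward.isDefEq.respectTransparency.types false

universe u

open CategoryTheory CategoryTheory.Limits AlgebraicGeometry TopologicalSpace Opposite Abelian
open scoped TensorProduct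
noncomputable section

namespace Groth.L17.Kun

open Groth.L17.FlatPair (E preservesColimits_E additive_E)
open Groth.L16.CohLinear (hmap tm overLin delta hmap_comp hmap_id exact_hmap_hmap exact_hmap_delta exact_delta_hmap)

attribute [local instance] additive_E preservesColimits_E

variable {A : Type u} [CommRing A] {X₁ X₂ X' : Scheme.{u}} [X₁.Over (Spec (CommRingCat.of A))]
  [X₂.Over (Spec (CommRingCat.of A))] [X'.Over (Spec (CommRingCat.of A))] (p₁ : X' ⟶ X₁) (p₂ : X' ⟶ X₂)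
  (hp : IsPullback p₁ p₂ (X₁ ↘ Spec (CommRingCat.of A)) (X₂ ↘ Spec (CommRingCat.of A)))
  (h₁ : p₁ ≫ (X₁ ↘ Spec (CommRingCat.of A)) = X' ↘ Spec (CommRingCat.of A))
  (h₂ : p₂ ≫ (X₂ ↘ Spec (CommRingCat.of A)) = X' ↘ Spec (CommRingCat.of A))
  (G : X₂.Modules) [Coh.IsQCoh G] {W : Scheme.{u}} [IsAffine W] (q : W ⟶ X₁) [IsAffineHom q]
  [CompactSpace X₁] [QuasiSeparatedSpace X₁] [CompactSpace X₂] [QuasiSeparatedSpace X₂] [QuasiSeparatedSpace X']
  [QuasiCompact p₂]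

variable {q} [IsAffineHom (pullback.diagonal (X₁ ↘ Spec (CommRingCat.of A)))]

include hp h₁ h₂ in
/-- The splitting. -/
theorem exists_split (hq : IsCover q) (n : ℕ) (Z : X₁.Modules) (hZ : Good (A := A) Z) :
    Nonempty ((∀ p : Fin (n + 1), Hm A Z p.1 ⊗[A] Hm A G (n - p.1)) ≃ₗ[A] Hm A ((Fn p₁ p₂ G).obj Z) n) := by
  let I := {Z : X₁.Modules // Good (A := A) Z}
  haveI : ∀ (Z : I) (m : ℕ), Module.Flat A (Hm A Z.1 m) := fun Z m => flat_Hm Z.1 m (Z.2.flatH m)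
  let nxt : I → I := fun Z => ⟨cokernel (η q Z.1), good_next hq Z.1 Z.2⟩
  have hS := fun Z : I => shortExact_Fn p₁ p₂ G hq Z.1
  exact exists_split_abstract nxt (fun Z m => Hm A Z.1 m) (fun Z m => Hm A ((Fn p₁ p₂ G).obj Z.1) m)
    (fun Z m => Hm A ((Fn p₁ p₂ G).obj (push₀ q Z.1)) m) (fun Z => Hm A (push₀ q Z.1) 0) (fun m => Hm A G m)
    (fun Z => hom A (η q Z.1) 0) (fun Z => hom A (cokernel.π (η q Z.1)) 0)
    (fun Z => dl A (seq_shortExact hq Z.1) 0)
    (fun Z => haveI := mono_η hq Z.1; injective_hom_zero (η q Z.1))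
    (fun Z => exact_hom_hom (seq_shortExact hq Z.1) 0) (fun Z => exact_hom_dl (seq_shortExact hq Z.1) 0)
    (fun Z => haveI := Z.2.qcoh; surjective_dl₀ hq Z.1)
    (fun Z m => haveI := Z.2.qcoh; shiftm hq Z.1 m)
    (fun Z m => μm p₁ p₂ h₁ h₂ G Z.1 m) (fun Z m => μm p₁ p₂ h₁ h₂ G (push₀ q Z.1) m)
    (fun Z m => bijective_μm_push₀ p₁ p₂ hp h₁ h₂ G hq Z.1 Z.2 m)
    (fun Z m => hom A ((Fn p₁ p₂ G).map (η q Z.1)) m)
    (fun Z m => hom A ((Fn p₁ p₂ G).map (cokernel.π (η q Z.1))) m)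
    (fun Z m => dl A (hS Z) m)
    (fun Z m x => μm_map p₁ p₂ h₁ h₂ G (η q Z.1) m x)
    (fun Z m x => μm_map p₁ p₂ h₁ h₂ G (cokernel.π (η q Z.1)) m x)
    (fun Z => haveI := mono_Fn_η p₁ p₂ G hq Z.1; injective_hom_zero ((Fn p₁ p₂ G).map (η q Z.1)))
    (fun Z m => exact_hom_hom (hS Z) m) (fun Z m => exact_hom_dl (hS Z) m)
    (fun Z m => exact_dl_hom (hS Z) m) n ⟨Z, hZ⟩

/-- Unbundling and swapping the factors. -/
theorem nonempty_unbundle (F : X₁.Modules) {M : X'.Modules} (c : (Fn p₁ p₂ G).obj F ≅ M) {n : ℕ}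
    (e : (∀ p : Fin (n + 1), Hm A F p.1 ⊗[A] Hm A G (n - p.1)) ≃ₗ[A] Hm A ((Fn p₁ p₂ G).obj F) n) :
    Nonempty ((∀ p : Fin (n + 1), Coh.HH X₁ F p.1 ⊗[A] Coh.HH X₂ G (n - p.1)) ≃ₗ[A] Coh.HH X' M n) := by
  let h : Hm A ((Fn p₁ p₂ G).obj F) n ≃ₗ[A] Hm A M n :=
    LinearEquiv.ofLinear (hom A c.hom n) (hom A c.inv n)
      (LinearMap.ext fun x => by
        show hmap c.hom n (hmap c.inv n x) = x
        rw [← hmap_comp, c.inv_hom_id]
        exact hmap_id n x)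
      (LinearMap.ext fun x => by
        show hmap c.inv n (hmap c.hom n x) = x
        rw [← hmap_comp, c.hom_inv_id]
        exact hmap_id n x)
  exact ⟨((LinearEquiv.piCongrRight fun p : Fin (n + 1) =>
    TensorProduct.congr (toHm A F p.1) (toHm A G (n - p.1))).trans (e.trans h)).trans (toHm A M n).symm⟩

include hp h₁ h₂ in
/-- The Künneth formula. -/
theorem exists_kunneth (F : X₁.Modules) [Coh.IsQCoh F]
    (hfl : FlatMod.IsFlatOver (X₁ ↘ Spec (CommRingCat.of A)) F) (hH : ∀ p : ℕ, Module.Flat A (Coh.HH X₁ F p))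
    (n : ℕ) :
    Nonempty ((∀ p : Fin (n + 1), Coh.HH X₁ F p.1 ⊗[A] Coh.HH X₂ G (n - p.1)) ≃ₗ[A]
      Coh.HH X' (CohB1.tensorMod ((Scheme.Modules.pullback p₁).obj F) ((Scheme.Modules.pullback p₂).obj G)) n) := by
  obtain ⟨W, _, q, hqa, hq⟩ := exists_affine_isCover (X₁ ↘ Spec (CommRingCat.of A))
  obtain ⟨e⟩ := exists_split p₁ p₂ hp h₁ h₂ G hq n F ⟨inferInstance, hfl, hH⟩
  let c := Groth.L00.Tensor.tensorComm ((Scheme.Modules.pullback p₂).obj G) ((Scheme.Modules.pullback p₁).obj F)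
  exact nonempty_unbundle p₁ p₂ G F c e

end Groth.L17.Kun
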