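import Groth.Agent.L17.Kun.Fam
import Groth.Agent.L17.FlatPair.PairIso
import Groth.Agent.L19.ProjBdl.PullComp
import Groth.Agent.L16.QcqsPush

/-!
The comparison map is bijective for direct images from affine schemes.
-/

set_option autoImplicit false
set_option linter.style.haveILetI false
set_option linter.unusedSectionVars false
set_option backward.isDefEq.respectTransparency false
set_option backward.isDefEq.respectTransparency.types false

universe u

open CategoryTheory CategoryTheory.Limits AlgebraicGeometry TopologicalSpace Opposite Abelian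
open scoped TensorProduct
noncomputable section

namespace Groth.L17.Kun

open Groth.L18.Frame (rs ro pull rs_rs rs_self rs_smul ro_ro pull_rs pull_smul)
open Groth.L18.GenLoc (tens tens_rs tens_smul_left tens_smul_right)
open Groth.L00.Tensor (tensorMap tensorIso)
open Groth.L17.FlatPair (E secTens bijective_secTens θc θc_app γ γ_tmul bijective_γ exists_tensor_congr
  tens_add_left tens_add_right)
open Groth.L17.DegZero (SecA isIso_of_affine app_rs)
open Groth.L16.CohLinear (hmap tm overLin)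

section Affine

variable {X S X' S' : Scheme.{u}} (f : X ⟶ S) (g : S' ⟶ S) (g' : X' ⟶ X) (f' : X' ⟶ S')
  (hc : IsPullback g' f' f g) (G : S'.Modules)

include hc in
/-- Base change with coefficients along an affine morphism needs no flatness. -/
theorem isIso_θc [IsAffineHom f] (F : X.Modules) [Coh.IsQCoh F] [Coh.IsQCoh G] :
    IsIso (θc f g g' f' hc.w G F) := by
  haveI := Groth.L16.QcqsPush.isQCoh_push F f
  set H := (Scheme.Modules.pushforward f).obj F
  refine isIso_of_affine _ fun z => ?_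
  obtain ⟨_, ⟨V, hV, rfl⟩, hzV, -⟩ :=
    S.isBasis_affineOpens.exists_subset_of_mem_open (Set.mem_univ (g z)) isOpen_univ
  refine ⟨g ⁻¹ᵁ V, hzV, fun V' eV hV' => ?_⟩
  haveI : Coh.IsQCoh ((Scheme.Modules.pullback g).obj H) := Groth.L16.AffineBC.isQCoh_pullback g H
  letI : Algebra Γ(S, V) Γ(S', V') := (g.appLE V V' eV).hom.toAlgebra
  letI : Module Γ(S, V) Γ((Scheme.Modules.pullback g).obj H, V') := Module.compHom _ (g.appLE V V' eV).hom
  haveI : IsScalarTower Γ(S, V) Γ(S', V') Γ((Scheme.Modules.pullback g).obj H, V') :=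
    IsScalarTower.of_algebraMap_smul fun _ _ => rfl
  letI : Module Γ(S', V') (SecA g G eV) := inferInstanceAs (Module Γ(S', V') Γ(G, V'))
  haveI : IsScalarTower Γ(S, V) Γ(S', V') (SecA g G eV) := IsScalarTower.of_algebraMap_smul fun _ _ => rfl
  have hbc := Groth.L16.AffineBC.isBaseChange_pull g H hV hV' eV
  let e₀ : SecA g G eV ⊗[Γ(S, V)] Γ(H, V) ≃+ Γ(G, V') ⊗[Γ(S', V')] Γ((Scheme.Modules.pullback g).obj H, V') :=
    (TensorProduct.AlgebraTensorModule.cancelBaseChange Γ(S, V) Γ(S', V') Γ(S', V') (SecA g G eV)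
      Γ(H, V)).symm.toAddEquiv.trans (TensorProduct.congr (LinearEquiv.refl Γ(S', V') (SecA g G eV)) hbc.equiv).toAddEquiv
  let ex : SecA g G eV ⊗[Γ(S, V)] Γ(H, V) →+ Γ((E g G).obj H, V') :=
    (secTens G ((Scheme.Modules.pullback g).obj H) V').toAddMonoidHom.comp e₀.toAddMonoidHom
  have hex : Function.Bijective ex :=
    (bijective_secTens G ((Scheme.Modules.pullback g).obj H) hV').comp e₀.bijective
  have hex_tmul : ∀ (c : SecA g G eV) (h : Γ(H, V)),
      ex (c ⊗ₜ h) = tens G ((Scheme.Modules.pullback g).obj H) V' c (rs _ eV (pull g H V h)) := fun c h => by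
    show tens G ((Scheme.Modules.pullback g).obj H) V' c (hbc.equiv ((1 : Γ(S', V')) ⊗ₜ h)) = _
    rw [IsBaseChange.equiv_tmul, one_smul]
    rfl
  have h' : f' ⁻¹ᵁ V' ≤ g' ⁻¹ᵁ (f ⁻¹ᵁ V) := fun x hx => by
    show f (g' x) ∈ V
    rw [← Scheme.Hom.comp_apply, hc.w, Scheme.Hom.comp_apply]
    exact eV hx
  have hγ := bijective_γ f g g' f' hc.w G F eV hc hV hV' (hV.preimage f) (le_refl (f ⁻¹ᵁ V))
  let N := (E g' ((Scheme.Modules.pullback f').obj G)).obj F
  have hle : f' ⁻¹ᵁ V' ≤ g' ⁻¹ᵁ (f ⁻¹ᵁ V) ⊓ f' ⁻¹ᵁ V' := le_inf h' le_rfl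
  have hge : g' ⁻¹ᵁ (f ⁻¹ᵁ V) ⊓ f' ⁻¹ᵁ V' ≤ f' ⁻¹ᵁ V' := inf_le_right
  have hr : Function.Bijective (rs N hle) := by
    refine ⟨fun a b hab => ?_, fun b => ⟨rs _ hge b, by rw [rs_rs, rs_self]⟩⟩
    have := congrArg (rs N hge) hab
    rwa [rs_rs, rs_rs, rs_self, rs_self] at this
  let eH : SecA f F (le_refl (f ⁻¹ᵁ V)) ≃ₗ[Γ(S, V)] Γ(H, V) :=
    { AddEquiv.refl Γ(F, f ⁻¹ᵁ V) with
      map_smul' := fun a s => by
        show (f.appLE V (f ⁻¹ᵁ V) le_rfl).hom a • (show Γ(F, f ⁻¹ᵁ V) from s) =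
          (f.app V).hom a • (show Γ(F, f ⁻¹ᵁ V) from s)
        rw [Scheme.Hom.app_eq_appLE] }
  let eT := TensorProduct.congr (LinearEquiv.refl Γ(S, V) (SecA g G eV)) eH
  have key : ∀ z, (θc f g g' f' hc.w G F).app V' (ex (eT z)) =
      rs N hle (γ f g g' f' hc.w G F eV le_rfl _ inf_le_left inf_le_right z) := fun z => by
    induction z using TensorProduct.induction_on with
    | zero => simp only [map_zero]
    | add a b ha hb =>
      simp only [map_add, ha, hb]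
    | tmul c s =>
      refine (congrArg _ (hex_tmul c (eH s))).trans ((θc_app f g g' f' hc.w G eV h' c s).trans ?_)
      rw [γ_tmul]
      refine Eq.trans ?_ (tens_rs hle _ _).symm
      rw [rs_rs, rs_rs, rs_self]
  have hcomp : Function.Bijective (fun z => (θc f g g' f' hc.w G F).app V' (ex (eT z))) := by
    rw [funext key]
    exact hr.comp hγ
  exact (Function.Bijective.of_comp_iff _ (hex.comp eT.bijective)).1 hcomp

/-- Acyclicity of direct images over opens with affine preimage. -/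
theorem hu_push_eq_zero {Y T : Scheme.{u}} (q : T ⟶ Y) [IsAffineHom q] [QuasiSeparatedSpace Y] (N : T.Modules)
    [Coh.IsQCoh N] {V : Y.Opens} (hV : IsCompact (V : Set Y)) (hqV : IsAffineOpen (q ⁻¹ᵁ V)) (k : ℕ)
    (x : HU (X := Y.toTopCat) V (Coh.toAb ((Scheme.Modules.pushforward q).obj N)) (k + 1)) : x = 0 := by
  haveI := Groth.L16.QcqsPush.isQCoh_push N q
  let F := (Scheme.Modules.pushforward q).obj N
  let A : Type u := Γ(Y, ⊤)
  letI : CommRing A := inferInstanceAs (CommRing Γ(Y, ⊤))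
  let ρ : A →+* Coh.Γtop Y := RingHom.id _
  let φ : A →+ (Coh.toAb F ⟶ (SheafTheta.pushAb (X := Y.toTopCat) (X' := T.toTopCat) q.base).obj (Coh.toAb N)) :=
    AddMonoidHom.mk' (fun r => Coh.smulAb F r) fun a b => Coh.smulAb_add F a b
  have hA : ∀ a n : A, φ (a • n) = Coh.smulAb F (ρ a) ≫ φ n := fun a n => by
    show Coh.smulAb F (a * n) = _
    rw [mul_comm, Coh.smulAb_mul]
    rfl
  have hbij : ∀ W : Y.Opens, IsAffineOpen W → SchemeTheta.BijOn q ρ φ W := fun W _ =>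
    ⟨(TensorProduct.lid A (BC.Sec ρ F W)).toAddEquiv.toAddMonoidHom,
      (TensorProduct.lid A (BC.Sec ρ F W)).bijective, fun n m => by
        show n • m = _
        exact (Coh.smulAb_app F n (op W) m).symm⟩
  have hb := SchemeTheta.bijective_Th (F := F) (G := N) q ρ φ hA hbij hV (k + 1)
  have h0 : ∀ y, y = (0 : HU (X := T.toTopCat) (q ⁻¹ᵁ V) (Coh.toAb N) (k + 1)) := hu_affine_eq_zero N hqV k
  have h1 : (1 : A) ⊗ₜ[A] (ExtTheta.EA.mk (SchemeTheta.actEnd ρ F) (k + 1) x) = 0 :=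
    hb.1 ((h0 _).trans (map_zero _).symm)
  have h2 := congrArg (TensorProduct.lid A (ExtTheta.EA (SchemeTheta.actEnd ρ F) (zFree (X := Y.toTopCat) V) (k + 1))) h1
  rw [TensorProduct.lid_tmul, one_smul, map_zero] at h2
  exact h2

end Affine

section Push

variable {A : Type u} [CommRing A] {X₁ X₂ X' : Scheme.{u}} [X₁.Over (Spec (CommRingCat.of A))]
  [X₂.Over (Spec (CommRingCat.of A))] [X'.Over (Spec (CommRingCat.of A))] (p₁ : X' ⟶ X₁) (p₂ : X' ⟶ X₂)
  (hp : IsPullback p₁ p₂ (X₁ ↘ Spec (CommRingCat.of A)) (X₂ ↘ Spec (CommRingCat.of A)))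
  (h₁ : p₁ ≫ (X₁ ↘ Spec (CommRingCat.of A)) = X' ↘ Spec (CommRingCat.of A))
  (h₂ : p₂ ≫ (X₂ ↘ Spec (CommRingCat.of A)) = X' ↘ Spec (CommRingCat.of A))
  (G : X₂.Modules) [Coh.IsQCoh G] {W : Scheme.{u}} [IsAffine W] (q : W ⟶ X₁) [IsAffineHom q]
  (M : W.Modules) [Coh.IsQCoh M]

include hp in
theorem isAffineHom_comp_snd :
    IsAffineHom (pullback.snd q p₁ ≫ p₂) := by
  have sq := (IsPullback.of_hasPullback q p₁).paste_vert hp.flip.flip
  haveI : IsAffineHom (q ≫ X₁ ↘ Spec (CommRingCat.of A)) := isAffineHom_of_isAffine _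
  exact MorphismProperty.of_isPullback (P := @IsAffineHom) sq (inferInstance)

include hp in
/-- Acyclicity. -/
theorem hu_Fn_push_eq_zero [QuasiSeparatedSpace X'] [QuasiCompact p₂] {V : X₂.Opens} (hV : IsAffineOpen V) (k : ℕ)
    (x : HU (X := X'.toTopCat) (p₂ ⁻¹ᵁ V)
      (Coh.toAb ((Fn p₁ p₂ G).obj ((Scheme.Modules.pushforward q).obj M))) (k + 1)) : x = 0 := by
  haveI := isAffineHom_comp_snd p₁ p₂ hp q
  haveI : IsAffineHom (pullback.snd q p₁) := MorphismProperty.pullback_snd _ _ inferInstance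
  let G' := (Scheme.Modules.pullback p₂).obj G
  haveI : Coh.IsQCoh G' := Groth.L16.AffineBC.isQCoh_pullback p₂ G
  haveI := isIso_θc q p₁ (pullback.fst q p₁) (pullback.snd q p₁) (IsPullback.of_hasPullback q p₁) G' M
  let N := (E (pullback.fst q p₁) ((Scheme.Modules.pullback (pullback.snd q p₁)).obj G')).obj M
  haveI : Coh.IsQCoh N :=
    haveI := Groth.L16.AffineBC.isQCoh_pullback (pullback.snd q p₁) G'
    haveI := Groth.L16.AffineBC.isQCoh_pullback (pullback.fst q p₁) M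
    Groth.L00.Tensor.isQCoh_tensorMod _ _
  let c := θc q p₁ (pullback.fst q p₁) (pullback.snd q p₁) (IsPullback.of_hasPullback q p₁).w G' M
  have h := hu_push_eq_zero (pullback.snd q p₁) N (p₂.isCompact_preimage hV.isCompact)
    (hV.preimage (pullback.snd q p₁ ≫ p₂)) k (huMap (tm c) x)
  have h2 := congrArg (huMap (X := X'.toTopCat) (tm (inv c))) h
  have e : tm c ≫ tm (inv c) = 𝟙 _ := by
    rw [tm, tm, ← Functor.map_comp, IsIso.hom_inv_id, CategoryTheory.Functor.map_id]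
  change (x.comp (Ext.mk₀ (tm c)) (add_zero _)).comp (Ext.mk₀ (tm (inv c))) (add_zero _) =
    (0 : HU (X := X'.toTopCat) (p₂ ⁻¹ᵁ V) _ (k + 1)).comp _ _ at h2
  rwa [Ext.comp_assoc_of_third_deg_zero, Ext.mk₀_comp_mk₀, e, Ext.comp_mk₀_id, Ext.zero_comp] at h2

include hp h₁ h₂ in
/-- Sections over an affine open. -/
theorem bijOn_push {V : X₂.Opens} (hV : IsAffineOpen V) :
    SchemeTheta.BijOn p₂ (Coh.toGlobal (X₂ ↘ Spec (CommRingCat.of A)))
      (fam (A := A) p₁ p₂ G ((Scheme.Modules.pushforward q).obj M)) V := by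
  let f₁ := X₁ ↘ Spec (CommRingCat.of A)
  let f₂ := X₂ ↘ Spec (CommRingCat.of A)
  let P := (Scheme.Modules.pushforward q).obj M
  let φ := fam (A := A) p₁ p₂ G P
  let G' := (Scheme.Modules.pullback p₂).obj G
  haveI : Coh.IsQCoh G' := Groth.L16.AffineBC.isQCoh_pullback p₂ G
  let r := pullback.fst q p₁
  let q' := pullback.snd q p₁
  have sq : IsPullback r q' q p₁ := IsPullback.of_hasPullback q p₁
  have sq' : IsPullback r (q' ≫ p₂) (q ≫ f₁) f₂ := sq.paste_vert hp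
  haveI := isIso_θc q p₁ r q' sq G' M
  let b : Coh.HH X₁ P 0 ⊗[A] BC.Sec (Coh.toGlobal f₂) G V →+ Γ((Fn p₁ p₂ G).obj P, p₂ ⁻¹ᵁ V) :=
    TensorProduct.liftAddHom
      (AddMonoidHom.mk' (fun s => ((φ s).hom.app (op V)).hom)
        fun s s' => by rw [map_add]; rfl)
      fun a s v => by
        refine (congrArg (fun k => k.hom.app (op V) v) (fam_smul p₁ p₂ G h₁ h₂ P a s)).trans ?_
        exact congrArg ((φ s).hom.app (op V)) (Coh.smulAb_app G (Coh.toGlobal f₂ a) (op V) v)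
  refine ⟨b, ?_, fun s v => rfl⟩
  let R := Γ(Spec (CommRingCat.of A), ⊤)
  let σ : A ≃+* R := (Scheme.ΓSpecIso (CommRingCat.of A)).symm.commRingCatIsoToRingEquiv
  have eV : V ≤ f₂ ⁻¹ᵁ ⊤ := le_top
  have eW : (⊤ : W.Opens) ≤ (q ≫ f₁) ⁻¹ᵁ ⊤ := le_top
  let eM : Coh.HH X₁ P 0 ≃+ SecA (q ≫ f₁) M eW := (sec0 A P).toAddEquiv
  let eN : BC.Sec (Coh.toGlobal f₂) G V ≃+ SecA f₂ G eV := AddEquiv.refl _
  have hM : ∀ (a : A) (s : Coh.HH X₁ P 0), eM (a • s) = σ a • eM s := fun a s => by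
    refine ((sec0 A P).map_smul a s).trans ?_
    refine congrArg (fun c : Γ(W, ⊤) => c • (show Γ(M, ⊤) from eM s)) ?_
    exact ConcreteCategory.congr_hom (show (f₁.appTop ≫ X₁.presheaf.map (homOfLE le_top).op) ≫ q.appTop =
      (q ≫ f₁).appLE ⊤ ⊤ eW by
        rw [show (X₁.presheaf.map (homOfLE (le_top : (⊤ : X₁.Opens) ≤ ⊤)).op) = 𝟙 _ from X₁.presheaf.map_id _,
          Category.comp_id, ← Scheme.Hom.comp_appTop]
        exact Scheme.Hom.app_eq_appLE _) (σ a)
  have hN : ∀ (a : A) (v : BC.Sec (Coh.toGlobal f₂) G V), eN (a • v) = σ a • eN v := fun a v => by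
    refine congrArg (fun c : Γ(X₂, V) => c • (show Γ(G, V) from v)) ?_
    exact ConcreteCategory.congr_hom (show f₂.appTop ≫ X₂.presheaf.map (homOfLE le_top).op = f₂.appLE ⊤ V eV from rfl)
      (σ a)
  obtain ⟨e, he⟩ := exists_tensor_congr σ eN eM hN hM
  have hγ := bijective_γ (q ≫ f₁) f₂ r (q' ≫ p₂) sq'.w G M eV sq' (isAffineOpen_top _) hV (isAffineOpen_top W) eW
  let k := tensorMap ((Scheme.Modules.pullbackComp q' p₂).inv.app G) (𝟙 ((Scheme.Modules.pullback r).obj M))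
  haveI : IsIso k := (tensorIso ((Scheme.Modules.pullbackComp q' p₂).app G).symm (Iso.refl _)).isIso_hom
  let N₁ := (E r ((Scheme.Modules.pullback q').obj G')).obj M
  let c := θc q p₁ r q' sq.w G' M
  have hle : (q' ≫ p₂) ⁻¹ᵁ V ≤ r ⁻¹ᵁ ⊤ ⊓ (q' ≫ p₂) ⁻¹ᵁ V := le_inf le_top le_rfl
  let N₀ := (E r ((Scheme.Modules.pullback (q' ≫ p₂)).obj G)).obj M
  have hr : Function.Bijective (rs N₀ hle) := by
    refine ⟨fun a a' haa => ?_, fun a => ⟨rs _ inf_le_right a, by rw [rs_rs, rs_self]⟩⟩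
    have := congrArg (rs N₀ (inf_le_right : r ⁻¹ᵁ ⊤ ⊓ (q' ≫ p₂) ⁻¹ᵁ V ≤ (q' ≫ p₂) ⁻¹ᵁ V)) haa
    rwa [rs_rs, rs_rs, rs_self, rs_self] at this
  have key : ∀ z, c.app (p₂ ⁻¹ᵁ V) (b z) = k.app ((q' ≫ p₂) ⁻¹ᵁ V)
      (rs N₀ hle (γ (q ≫ f₁) f₂ r (q' ≫ p₂) sq'.w G M eV eW _ inf_le_left inf_le_right
        (e (TensorProduct.comm A _ _ z)))) := fun z => by
    induction z using TensorProduct.induction_on with
    | zero => simp only [map_zero]
    | add a a' ha ha' => simp only [map_add, ha, ha']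
    | tmul s v =>
      rw [TensorProduct.comm_tmul, he, γ_tmul]
      refine Eq.trans ?_ (congrArg (k.app _) (tens_rs hle _ _)).symm
      rw [rs_rs, rs_rs, rs_self]
      refine Eq.trans ?_ (Groth.L17.ClosedPush.tensorMap_unit _ _ _ _ _).symm
      refine Eq.trans ?_ (congrArg (fun t => tens ((Scheme.Modules.pullback q').obj G') ((Scheme.Modules.pullback r).obj M)
        ((q' ≫ p₂) ⁻¹ᵁ V) t _) (Groth.L19.ProjBdl.pull_comp q' p₂ G V _)).symm
      exact θc_app q p₁ r q' sq.w G' (V := (⊤ : X₁.Opens)) (V' := p₂ ⁻¹ᵁ V) le_top le_top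
        (pull p₂ G V (show Γ(G, V) from v)) (show Γ(M, q ⁻¹ᵁ ⊤) from sec0 A P s)
  have hcomp : Function.Bijective (fun z => c.app (p₂ ⁻¹ᵁ V) (b z)) := by
    rw [funext key]
    exact (ConcreteCategory.bijective_of_isIso (k.app ((q' ≫ p₂) ⁻¹ᵁ V))).comp
      (hr.comp (hγ.comp (e.bijective.comp (TensorProduct.comm A _ _).bijective)))
  exact (Function.Bijective.of_comp_iff' (ConcreteCategory.bijective_of_isIso (c.app (p₂ ⁻¹ᵁ V))) b).1 hcomp

end Push

end Groth.L17.Kun
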