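import Groth.Agent.L17.FlatPair.CohTensor
import Groth.Agent.L17.FlatBase.SchemeTheta
import Groth.Agent.L16.CohLinear

/-!
The comparison map `H⁰(X₁, Z) ⊗ H^n(X₂, G) → H^n(X₁ ×_A X₂, pr₂^* G ⊗ pr₁^* Z)` and its naturality.
-/

set_option autoImplicit false
set_option linter.style.haveILetI false
set_option linter.unusedSectionVars false
set_option backward.isDefEq.respectTransparency false
set_option backward.isDefEq.respectTransparency.types false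

universe u

open CategoryTheory CategoryTheory.Limits AlgebraicGeometry TopologicalSpace Opposite Abelian
open scoped TensorProduct
noncomputable section

namespace Groth.L17.Kun

open Groth.L18.Frame (rs ro pull rs_rs rs_self rs_smul ro_ro pull_rs pull_smul)
open Groth.L18.GenLoc (tens tens_rs tens_smul_left tens_smul_right)
open Groth.L17.FlatPair (E tens_add_left tens_add_right)
open Groth.L16.CohLinear (hmap tm overLin)

section Gen

open ExtTheta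

variable {C D : Type*} [Category C] [Category D] [Abelian C] [Abelian D] [HasExt.{u} C] [HasExt.{u} D]
  {A : Type u} [CommRing A] {F : C} (ρ : A →+* End F) {P : C} {P' : D} {G G' : D}
  (Φ : C ⥤ D) [Φ.Additive] [PreservesFiniteLimits Φ] [PreservesFiniteColimits Φ]
  {N N' : Type u} [AddCommGroup N] [Module A N] [AddCommGroup N'] [Module A N']
  (μ : N →+ (Φ.obj F ⟶ G)) (hμ : ∀ (a : A) (n : N), μ (a • n) = Φ.map (ρ a) ≫ μ n)
  (μ' : N' →+ (Φ.obj F ⟶ G')) (hμ' : ∀ (a : A) (n : N'), μ' (a • n) = Φ.map (ρ a) ≫ μ' n)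

theorem θ_change (q : ℕ) (c : P' ⟶ Φ.obj P) (s : G ⟶ G') (φ : N →ₗ[A] N') (hs : ∀ n, μ' (φ n) = μ n ≫ s)
    (z : N ⊗[A] EA ρ P q) :
    θ ρ q Φ μ' hμ' c (φ.rTensor _ z) = (θ ρ q Φ μ hμ c z).comp (Ext.mk₀ s) (add_zero q) := by
  induction z using TensorProduct.induction_on with
  | zero => simp
  | add x y hx hy => rw [map_add, map_add, hx, hy, map_add, Ext.add_comp]
  | tmul a x =>
    rw [LinearMap.rTensor_tmul, θ_tmul, θ_tmul, hs]
    simp only [← Ext.mk₀_comp_mk₀, Ext.comp_assoc_of_third_deg_zero]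

variable {M K K' : Type u} [AddCommGroup M] [Module A M] [AddCommGroup K] [Module A K] [AddCommGroup K']
  [Module A K'] (q : ℕ) (c : P' ⟶ Φ.obj P) (e₁ : M ≃ₗ[A] EA ρ P q) (e₂ : K ≃+ Ext.{u} P' G q)
  (e₂' : K' ≃+ Ext.{u} P' G' q)
  (σ : A → (G ⟶ G)) (hσ : ∀ (a : A) (n : N), μ (a • n) = μ n ≫ σ a)
  (he₂ : ∀ (a : A) (k : K), e₂ (a • k) = (e₂ k).comp (Ext.mk₀ (σ a)) (add_zero q))

/-- The comparison, between given models of both sides. -/
def cmp : N ⊗[A] M →ₗ[A] K where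
  toFun z := e₂.symm (θ ρ q Φ μ hμ c (TensorProduct.congr (LinearEquiv.refl A N) e₁ z))
  map_add' x y := by rw [map_add, map_add, map_add]
  map_smul' a z := by
    let mb : N →ₗ[A] N := a • LinearMap.id
    have h1 : TensorProduct.congr (LinearEquiv.refl A N) e₁ (a • z) =
        mb.rTensor _ (TensorProduct.congr (LinearEquiv.refl A N) e₁ z) := by simp [mb]
    apply e₂.injective
    rw [RingHom.id_apply, AddEquiv.apply_symm_apply, he₂, AddEquiv.apply_symm_apply, h1]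
    exact θ_change ρ Φ μ hμ μ hμ q c (σ a) mb (fun n => hσ a n) _

theorem apply_cmp (z : N ⊗[A] M) :
    e₂ (cmp ρ Φ μ hμ q c e₁ e₂ σ hσ he₂ z) = θ ρ q Φ μ hμ c (TensorProduct.congr (LinearEquiv.refl A N) e₁ z) :=
  e₂.apply_symm_apply _

theorem bijective_cmp (hb : Function.Bijective (θ ρ q Φ μ hμ c)) :
    Function.Bijective (cmp ρ Φ μ hμ q c e₁ e₂ σ hσ he₂) :=
  e₂.symm.bijective.comp (hb.comp (TensorProduct.congr (LinearEquiv.refl A N) e₁).bijective)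

variable (σ' : A → (G' ⟶ G')) (hσ' : ∀ (a : A) (n : N'), μ' (a • n) = μ' n ≫ σ' a)
  (he₂' : ∀ (a : A) (k : K'), e₂' (a • k) = (e₂' k).comp (Ext.mk₀ (σ' a)) (add_zero q))

theorem cmp_map (l : N →ₗ[A] N') (s : G ⟶ G') (hs : ∀ n, μ' (l n) = μ n ≫ s) (f : K → K')
    (hf : ∀ k, e₂' (f k) = (e₂ k).comp (Ext.mk₀ s) (add_zero q)) (z : N ⊗[A] M) :
    f (cmp ρ Φ μ hμ q c e₁ e₂ σ hσ he₂ z) = cmp ρ Φ μ' hμ' q c e₁ e₂' σ' hσ' he₂' (l.rTensor M z) := by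
  apply e₂'.injective
  rw [hf, apply_cmp, apply_cmp]
  have h : TensorProduct.congr (LinearEquiv.refl A N') e₁ (l.rTensor M z) =
      l.rTensor _ (TensorProduct.congr (LinearEquiv.refl A N) e₁ z) := by
    induction z using TensorProduct.induction_on with
    | zero => simp
    | add a b ha hb => simp only [map_add, ha, hb]
    | tmul a b => rfl
  rw [h]
  exact (θ_change ρ Φ μ hμ μ' hμ' q c s l hs _).symm

end Gen

section Top

variable {X X' : TopCat.{u}} (g : X' ⟶ X) {F : AbSheaf X} {G G' : AbSheaf X'} {N N' : Type u}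
  [AddCommGroup N] [AddCommGroup N'] (φ : N →+ (F ⟶ (SheafTheta.pushAb g).obj G))
  (φ' : N' →+ (F ⟶ (SheafTheta.pushAb g).obj G'))

theorem transp_comp (n : N) (n' : N') (s : G ⟶ G') (h : φ' n' = φ n ≫ (SheafTheta.pushAb g).map s) :
    SheafTheta.transp g φ' n' = SheafTheta.transp g φ n ≫ s := by
  change (SheafTheta.pullAb g).map (φ' n') ≫ _ = ((SheafTheta.pullAb g).map (φ n) ≫ _) ≫ _
  rw [h, Functor.map_comp, Category.assoc, Category.assoc]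
  exact congrArg _ ((SheafTheta.adj g).counit.naturality _)

end Top

section MulR

variable {Z : Scheme.{u}} (P Q : Z.Modules)

/-- Tensoring with a global section, on the right. -/
def mulR (σ : Γ(Q, ⊤)) : P ⟶ CohB1.tensorMod P Q :=
  ⟨PresheafOfModules.homMk
    { app := fun U => AddCommGrpCat.ofHom
        (AddMonoidHom.mk' (fun x : Γ(P, U.unop) => tens P Q U.unop x (rs Q le_top σ))
          fun x y => tens_add_left P Q U.unop x y _)
      naturality := fun U V i => by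
        ext x
        show tens P Q V.unop (rs P i.unop.le (show Γ(P, U.unop) from x)) (rs Q le_top σ) =
          rs (CohB1.tensorMod P Q) i.unop.le (tens P Q U.unop (show Γ(P, U.unop) from x) (rs Q le_top σ))
        rw [tens_rs, rs_rs] }
    (fun U r (x : Γ(P, U.unop)) => tens_smul_left (show Γ(Z, U.unop) from r) x (rs Q le_top σ))⟩

theorem mulR_app (σ : Γ(Q, ⊤)) (U : Z.Opens) (x : Γ(P, U)) :
    (mulR P Q σ).app U x = tens P Q U x (rs Q le_top σ) := rfl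

end MulR

section Sec0

/-- Cohomology in terms of `Ext` out of the free sheaf on the whole space. -/
def eH {X : Scheme.{u}} (Z : X.Modules) (n : ℕ) : Coh.HH X Z n ≃+ HU (X := X.toTopCat) ⊤ (Coh.toAb Z) n :=
  hTopEquiv (X := X.toTopCat) (Coh.toAb Z) n

theorem eH_map {X : Scheme.{u}} {Z Z' : X.Modules} (φ : Coh.toAb Z ⟶ Coh.toAb Z') (n : ℕ) (x : Coh.HH X Z n) :
    eH Z' n (Sheaf.H.map φ n x) = huMap φ (eH Z n x) :=
  (Ext.comp_assoc_of_third_deg_zero _ x _ (zero_add n)).symm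

theorem eH_smul {X : Scheme.{u}} (Z : X.Modules) (n : ℕ) (r : Coh.Γtop X) (x : Coh.HH X Z n) :
    eH Z n (r • x) = huMap (Coh.smulAb Z r) (eH Z n x) :=
  eH_map (Coh.smulAb Z r) n x

/-- Degree zero classes on an open as sections. -/
def eS {X : Scheme.{u}} (Z : X.Modules) (V : X.Opens) : HU (X := X.toTopCat) V (Coh.toAb Z) 0 ≃+ Γ(Z, V) :=
  hu₀ (X := X.toTopCat) V (Coh.toAb Z)

theorem eS_map {X : Scheme.{u}} {Z Z' : X.Modules} (φ : Z ⟶ Z') (V : X.Opens)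
    (y : HU (X := X.toTopCat) V (Coh.toAb Z) 0) : eS Z' V (huMap (tm φ) y) = φ.app V (eS Z V y) :=
  hu₀_map (tm φ) y

theorem eS_smul {X : Scheme.{u}} (Z : X.Modules) (V : X.Opens) (r : Coh.Γtop X)
    (y : HU (X := X.toTopCat) V (Coh.toAb Z) 0) :
    eS Z V (huMap (Coh.smulAb Z r) y) = (show Γ(X, V) from Coh.resTop X (op V) r) • eS Z V y :=
  (hu₀_map (Coh.smulAb Z r) y).trans (Coh.smulAb_app Z r (op V) _)

variable (A : Type u) [CommRing A] {X : Scheme.{u}} [X.Over (Spec (CommRingCat.of A))]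

/-- Degree zero cohomology as global sections. -/
def sec0 (Z : X.Modules) :
    Coh.HH X Z 0 ≃ₗ[A] BC.Sec (Coh.toGlobal (X ↘ Spec (CommRingCat.of A))) Z (⊤ : X.Opens) :=
  AddEquiv.toLinearEquiv (M₂ := BC.Sec (Coh.toGlobal (X ↘ Spec (CommRingCat.of A))) Z (⊤ : X.Opens))
    ((eH Z 0).trans (eS Z ⊤)) fun a x =>
      (congrArg (eS Z ⊤) (eH_smul Z 0 (Coh.toGlobal (X ↘ Spec (CommRingCat.of A)) a) x)).trans
        (eS_smul Z ⊤ (Coh.toGlobal (X ↘ Spec (CommRingCat.of A)) a) (eH Z 0 x))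

theorem sec0_map {Z Z' : X.Modules} (φ : Z ⟶ Z') (x : Coh.HH X Z 0) :
    sec0 A Z' (hmap φ 0 x) = φ.app ⊤ (sec0 A Z x) :=
  (congrArg (eS Z' ⊤) (eH_map (tm φ) 0 x)).trans (eS_map φ ⊤ (eH Z 0 x))

end Sec0

variable {A : Type u} [CommRing A] {X₁ X₂ X' : Scheme.{u}} [X₁.Over (Spec (CommRingCat.of A))]
  [X₂.Over (Spec (CommRingCat.of A))] [X'.Over (Spec (CommRingCat.of A))] (p₁ : X' ⟶ X₁) (p₂ : X' ⟶ X₂)

/-- `Z ↦ p₂^* G ⊗ p₁^* Z`. -/
abbrev Fn (G : X₂.Modules) : X₁.Modules ⥤ X'.Modules := E p₁ ((Scheme.Modules.pullback p₂).obj G)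

variable (G : X₂.Modules)

/-- The family of maps indexed by global sections. -/
def fam (Z : X₁.Modules) : Coh.HH X₁ Z 0 →+
    (Coh.toAb G ⟶ (SheafTheta.pushAb (X := X₂.toTopCat) (X' := X'.toTopCat) p₂.base).obj
      (Coh.toAb ((Fn p₁ p₂ G).obj Z))) :=
  AddMonoidHom.mk' (fun s => tm ((Scheme.Modules.pullbackPushforwardAdjunction p₂).unit.app G) ≫
      (SheafTheta.pushAb (X := X₂.toTopCat) (X' := X'.toTopCat) p₂.base).map
        (tm (mulR ((Scheme.Modules.pullback p₂).obj G) ((Scheme.Modules.pullback p₁).obj Z)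
          (pull p₁ Z ⊤ (sec0 A Z s)))))
    fun s s' => by
      ext V v
      show tens _ _ (p₂ ⁻¹ᵁ V.unop) (pull p₂ G V.unop v) (rs _ le_top (pull p₁ Z ⊤ (sec0 A Z (s + s')))) = _
      rw [map_add, show rs ((Scheme.Modules.pullback p₁).obj Z) (le_top : p₂ ⁻¹ᵁ V.unop ≤ ⊤)
          (pull p₁ Z ⊤ (sec0 A Z s + sec0 A Z s')) =
        rs _ le_top (pull p₁ Z ⊤ (sec0 A Z s)) + rs _ le_top (pull p₁ Z ⊤ (sec0 A Z s')) from
          (congrArg _ (map_add (((Scheme.Modules.pullbackPushforwardAdjunction p₁).unit.app Z).app ⊤).hom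
            (sec0 A Z s) (sec0 A Z s'))).trans (map_add _ _ _), tens_add_right]
      rfl

theorem fam_app (Z : X₁.Modules) (s : Coh.HH X₁ Z 0) (V : X₂.Opens) (v : Γ(G, V)) :
    (fam (A := A) p₁ p₂ G Z s).hom.app (op V) v =
      tens _ _ (p₂ ⁻¹ᵁ V) (pull p₂ G V v) (rs _ le_top (pull p₁ Z ⊤ (sec0 A Z s))) := rfl

variable (h₁ : p₁ ≫ (X₁ ↘ Spec (CommRingCat.of A)) = X' ↘ Spec (CommRingCat.of A))
  (h₂ : p₂ ≫ (X₂ ↘ Spec (CommRingCat.of A)) = X' ↘ Spec (CommRingCat.of A))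

include h₁ in
theorem fam_smul' (Z : X₁.Modules) (a : A) (s : Coh.HH X₁ Z 0) :
    fam (A := A) p₁ p₂ G Z (a • s) = fam (A := A) p₁ p₂ G Z s ≫
      (SheafTheta.pushAb (X := X₂.toTopCat) (X' := X'.toTopCat) p₂.base).map
        (Coh.smulAb ((Fn p₁ p₂ G).obj Z) (Coh.toGlobal (X' ↘ Spec (CommRingCat.of A)) a)) := by
  ext V v
  show (fam (A := A) p₁ p₂ G Z (a • s)).hom.app V v =
    (Coh.smulAb ((Fn p₁ p₂ G).obj Z) (Coh.toGlobal (X' ↘ Spec (CommRingCat.of A)) a)).hom.app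
      (op (p₂ ⁻¹ᵁ V.unop)) ((fam (A := A) p₁ p₂ G Z s).hom.app V v)
  refine Eq.trans ?_ (Coh.smulAb_app _ _ (op (p₂ ⁻¹ᵁ V.unop)) _).symm
  refine (fam_app p₁ p₂ G Z (a • s) V.unop v).trans (Eq.trans ?_ (congrArg _ (fam_app p₁ p₂ G Z s V.unop v)).symm)
  rw [map_smul]
  let r : Γ(X₁, ⊤) := X₁.presheaf.map (homOfLE le_top).op (Coh.toGlobal (X₁ ↘ Spec (CommRingCat.of A)) a)
  refine (congrArg (fun t => tens _ _ (p₂ ⁻¹ᵁ V.unop) _ (rs _ le_top t))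
    (pull_smul p₁ Z r (show Γ(Z, ⊤) from sec0 A Z s))).trans ?_
  rw [rs_smul, tens_smul_right]
  refine congrArg (fun c : Γ(X', p₂ ⁻¹ᵁ V.unop) => c • _) ?_
  rw [← h₁]
  show X'.presheaf.map _ (p₁.app ⊤ (X₁.presheaf.map (homOfLE le_top).op _)) = _
  rw [show (X₁.presheaf.map (homOfLE (le_top : (⊤ : X₁.Opens) ≤ ⊤)).op) = 𝟙 _ from X₁.presheaf.map_id _]
  rfl

include h₁ h₂ in
theorem fam_smul (Z : X₁.Modules) (a : A) (s : Coh.HH X₁ Z 0) :
    fam (A := A) p₁ p₂ G Z (a • s) =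
      Coh.smulAb G (Coh.toGlobal (X₂ ↘ Spec (CommRingCat.of A)) a) ≫ fam (A := A) p₁ p₂ G Z s := by
  refine (fam_smul' p₁ p₂ G h₁ Z a s).trans ?_
  ext V v
  show (Coh.smulAb ((Fn p₁ p₂ G).obj Z) (Coh.toGlobal (X' ↘ Spec (CommRingCat.of A)) a)).hom.app
      (op (p₂ ⁻¹ᵁ V.unop)) ((fam (A := A) p₁ p₂ G Z s).hom.app V v) =
    (fam (A := A) p₁ p₂ G Z s).hom.app V
      ((Coh.smulAb G (Coh.toGlobal (X₂ ↘ Spec (CommRingCat.of A)) a)).hom.app V v)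
  refine (Coh.smulAb_app _ _ (op (p₂ ⁻¹ᵁ V.unop)) _).trans
    (Eq.trans ?_ (congrArg ((fam (A := A) p₁ p₂ G Z s).hom.app V) (Coh.smulAb_app G _ V v)).symm)
  refine (congrArg _ (fam_app p₁ p₂ G Z s V.unop v)).trans (Eq.trans ?_ (fam_app p₁ p₂ G Z s V.unop _).symm)
  refine Eq.trans ?_ (congrArg (fun t => tens _ _ (p₂ ⁻¹ᵁ V.unop) t _)
    (pull_smul p₂ G (show Γ(X₂, V.unop) from Coh.resTop X₂ V (Coh.toGlobal (X₂ ↘ Spec (CommRingCat.of A)) a))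
      (show Γ(G, V.unop) from v))).symm
  rw [tens_smul_left]
  refine congrArg (fun c : Γ(X', p₂ ⁻¹ᵁ V.unop) => c • _) ?_
  rw [← h₂]
  exact (ConcreteCategory.congr_hom (p₂.naturality (homOfLE (le_top : V.unop ≤ ⊤)).op) _).symm

theorem fam_map {Z Z' : X₁.Modules} (φ : Z ⟶ Z') (s : Coh.HH X₁ Z 0) :
    fam (A := A) p₁ p₂ G Z' (hmap φ 0 s) = fam (A := A) p₁ p₂ G Z s ≫
      (SheafTheta.pushAb (X := X₂.toTopCat) (X' := X'.toTopCat) p₂.base).map (tm ((Fn p₁ p₂ G).map φ)) := by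
  ext V v
  show (fam (A := A) p₁ p₂ G Z' (hmap φ 0 s)).hom.app V v =
    ((Fn p₁ p₂ G).map φ).app (p₂ ⁻¹ᵁ V.unop) ((fam (A := A) p₁ p₂ G Z s).hom.app V v)
  refine (fam_app p₁ p₂ G Z' _ V.unop v).trans (Eq.trans ?_ (congrArg _ (fam_app p₁ p₂ G Z s V.unop v)).symm)
  refine Eq.trans ?_ (Groth.L17.ClosedPush.tensorMap_unit _ _ (p₂ ⁻¹ᵁ V.unop) _ _).symm
  rw [sec0_map, DegZero.app_rs]
  exact congrArg (fun t => tens _ _ (p₂ ⁻¹ᵁ V.unop) (pull p₂ G V.unop v) (rs _ le_top t))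
    (CxTools.pull_app p₁ φ ⊤ (sec0 A Z s)).symm

/-- The canonical map of free sheaves on the whole spaces. -/
abbrev cTop : zFree (X := X'.toTopCat) ⊤ ⟶
    (SheafTheta.pullAb (X := X₂.toTopCat) (X' := X'.toTopCat) p₂.base).obj (zFree (X := X₂.toTopCat) ⊤) :=
  SheafTheta.cMap (X := X₂.toTopCat) (X' := X'.toTopCat) p₂.base (U := ⊤) (U' := ⊤) fun _ _ => trivial

/-- The model of the cohomology of `G`. -/
def eG (n : ℕ) : Coh.HH X₂ G n ≃ₗ[A]
    ExtTheta.EA (SchemeTheta.actEnd (Coh.toGlobal (X₂ ↘ Spec (CommRingCat.of A))) G) (zFree (X := X₂.toTopCat) ⊤) n :=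
  AddEquiv.toLinearEquiv (M₂ := ExtTheta.EA (SchemeTheta.actEnd (Coh.toGlobal (X₂ ↘ Spec (CommRingCat.of A))) G)
    (zFree (X := X₂.toTopCat) ⊤) n) (eH G n) fun a x => eH_smul G n (Coh.toGlobal (X₂ ↘ Spec (CommRingCat.of A)) a) x

/-- The comparison map of cohomology. -/
def μ (Z : X₁.Modules) (n : ℕ) :
    Coh.HH X₁ Z 0 ⊗[A] Coh.HH X₂ G n →ₗ[A] Coh.HH X' ((Fn p₁ p₂ G).obj Z) n :=
  cmp (SchemeTheta.actEnd (Coh.toGlobal (X₂ ↘ Spec (CommRingCat.of A))) G) _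
    (SheafTheta.transp (X := X₂.toTopCat) (X' := X'.toTopCat) p₂.base (fam (A := A) p₁ p₂ G Z))
    (SheafTheta.transp_smul _ _ _ (fam_smul p₁ p₂ G h₁ h₂ Z)) n (cTop p₂) (eG G n)
    (eH ((Fn p₁ p₂ G).obj Z) n)
    (fun a => Coh.smulAb ((Fn p₁ p₂ G).obj Z) (Coh.toGlobal (X' ↘ Spec (CommRingCat.of A)) a))
    (fun a s => transp_comp _ _ _ s (a • s) _ (fam_smul' p₁ p₂ G h₁ Z a s))
    (fun a k => eH_smul ((Fn p₁ p₂ G).obj Z) n (Coh.toGlobal (X' ↘ Spec (CommRingCat.of A)) a) k)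

/-- Naturality. -/
theorem μ_map {Z Z' : X₁.Modules} (φ : Z ⟶ Z') (n : ℕ) (x : Coh.HH X₁ Z 0 ⊗[A] Coh.HH X₂ G n) :
    hmap ((Fn p₁ p₂ G).map φ) n (μ p₁ p₂ G h₁ h₂ Z n x) =
      μ p₁ p₂ G h₁ h₂ Z' n ((overLin A (hmap φ 0)).rTensor _ x) :=
  cmp_map (e₂ := eH ((Fn p₁ p₂ G).obj Z) n) (e₂' := eH ((Fn p₁ p₂ G).obj Z') n) (l := overLin A (hmap φ 0))
    (s := tm ((Fn p₁ p₂ G).map φ)) (hs := fun s => transp_comp _ _ _ s _ _ (fam_map p₁ p₂ G φ s))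
    (f := hmap ((Fn p₁ p₂ G).map φ) n) (hf := fun k => eH_map (tm ((Fn p₁ p₂ G).map φ)) n k) (z := x) ..

end Groth.L17.Kun
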