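import Groth.Agent.L17.Kun.Step
import Groth.Agent.L20.Strat.Stratification

/-!
The maps entering the induction of the Künneth formula.
-/

set_option autoImplicit false
set_option linter.style.haveILetI false
set_option linter.unusedSectionVars false
set_option backward.isDefEq.respectTransparency false
set_option backward.isDefEq.respectTransparency.types false

universe u

open CategoryTheory CategoryTheory.Limits AlgebraicGeometry TopologicalSpace Opposite Abelian
open scoped TensorProduct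
noncomputable section

namespace Groth.L17.Kun

open Groth.L00.Tensor (tensorMap tensorLeftF)
open Groth.L17.FlatPair (E preservesColimits_E additive_E)
open Groth.L16.CohLinear (hmap tm overLin delta hmap_comp hmap_id exact_hmap_hmap exact_hmap_delta exact_delta_hmap)

attribute [local instance] additive_E preservesColimits_E

variable {A : Type u} [CommRing A] {X₁ X₂ X' : Scheme.{u}} [X₁.Over (Spec (CommRingCat.of A))]
  [X₂.Over (Spec (CommRingCat.of A))] [X'.Over (Spec (CommRingCat.of A))] (p₁ : X' ⟶ X₁) (p₂ : X' ⟶ X₂)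
  (hp : IsPullback p₁ p₂ (X₁ ↘ Spec (CommRingCat.of A)) (X₂ ↘ Spec (CommRingCat.of A)))
  (h₁ : p₁ ≫ (X₁ ↘ Spec (CommRingCat.of A)) = X' ↘ Spec (CommRingCat.of A))
  (h₂ : p₂ ≫ (X₂ ↘ Spec (CommRingCat.of A)) = X' ↘ Spec (CommRingCat.of A))
  (G : X₂.Modules) [Coh.IsQCoh G] {W : Scheme.{u}} [IsAffine W] (q : W ⟶ X₁) [IsAffineHom q]
  [CompactSpace X₁] [QuasiSeparatedSpace X₁] [CompactSpace X₂] [QuasiSeparatedSpace X₂] [QuasiSeparatedSpace X']
  [QuasiCompact p₂]

variable {q} [IsAffineHom (pullback.diagonal (X₁ ↘ Spec (CommRingCat.of A)))]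

section Bundle

variable (A : Type u) [CommRing A] {X : Scheme.{u}} [X.Over (Spec (CommRingCat.of A))]

/-- Cohomology as a bundled module; this keeps terms small. -/
def Hm (M : X.Modules) (m : ℕ) : ModuleCat.{u} A := ModuleCat.of A (Coh.HH X M m)

/-- Unbundling. -/
def toHm (M : X.Modules) (m : ℕ) : Coh.HH X M m ≃ₗ[A] Hm A M m := LinearEquiv.refl A _

/-- Functoriality. -/
def hom {M N : X.Modules} (f : M ⟶ N) (m : ℕ) : Hm A M m →ₗ[A] Hm A N m := overLin A (hmap f m)

/-- Connecting maps. -/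
def dl {S : ShortComplex X.Modules} (hS : S.ShortExact) (m : ℕ) : Hm A S.X₃ m →ₗ[A] Hm A S.X₁ (m + 1) :=
  overLin A (delta hS m)

variable {A}

theorem exact_hom_hom {S : ShortComplex X.Modules} (hS : S.ShortExact) (m : ℕ) :
    Function.Exact (hom A S.f m) (hom A S.g m) :=
  exact_hmap_hmap hS m

theorem exact_hom_dl {S : ShortComplex X.Modules} (hS : S.ShortExact) (m : ℕ) :
    Function.Exact (hom A S.g m) (dl A hS m) :=
  exact_hmap_delta hS m

theorem exact_dl_hom {S : ShortComplex X.Modules} (hS : S.ShortExact) (m : ℕ) :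
    Function.Exact (dl A hS m) (hom A S.f (m + 1)) :=
  exact_delta_hmap hS m

theorem injective_hom_zero {M N : X.Modules} (φ : M ⟶ N) [Mono φ] : Function.Injective (hom A φ 0) :=
  fun a b hab => by
  apply (sec0 A M).injective
  have h := congrArg (sec0 A N) (show hmap φ 0 a = hmap φ 0 b from hab)
  rw [sec0_map, sec0_map] at h
  exact Groth.L20.Strat.app_injective_of_mono φ ⊤ h

theorem flat_Hm (M : X.Modules) (m : ℕ) (h : Module.Flat A (Coh.HH X M m)) : Module.Flat A (Hm A M m) := h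

end Bundle

/-- The comparison, bundled. -/
def μm (Z : X₁.Modules) (m : ℕ) : Hm A Z 0 ⊗[A] Hm A G m →ₗ[A] Hm A ((Fn p₁ p₂ G).obj Z) m :=
  μ p₁ p₂ G h₁ h₂ Z m

theorem μm_map {Z Z' : X₁.Modules} (φ : Z ⟶ Z') (m : ℕ) (x : Hm A Z 0 ⊗[A] Hm A G m) :
    hom A ((Fn p₁ p₂ G).map φ) m (μm p₁ p₂ h₁ h₂ G Z m x) =
      μm p₁ p₂ h₁ h₂ G Z' m ((hom A φ 0).rTensor _ x) :=
  μ_map p₁ p₂ G h₁ h₂ φ m x

/-- The direct image. -/
abbrev push₀ (q : W ⟶ X₁) (Z : X₁.Modules) : X₁.Modules :=
  (Scheme.Modules.pushforward q).obj ((Scheme.Modules.pullback q).obj Z)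

include hp in
theorem bijective_μm_push₀ (hq : IsCover q) (Z : X₁.Modules) (hZ : Good (A := A) Z) (m : ℕ) :
    Function.Bijective (μm p₁ p₂ h₁ h₂ G (push₀ q Z) m) :=
  haveI := hZ.qcoh
  haveI := Groth.L16.AffineBC.isQCoh_pullback q Z
  haveI := flat_HH_push hq Z hZ
  bijective_μ_push p₁ p₂ hp h₁ h₂ G q ((Scheme.Modules.pullback q).obj Z) m

theorem surjective_dl₀ (hq : IsCover q) (Z : X₁.Modules) [Coh.IsQCoh Z] :
    Function.Surjective (dl A (seq_shortExact hq Z) 0) := fun y => by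
  haveI := Groth.L16.AffineBC.isQCoh_pullback q Z
  haveI : Subsingleton (Coh.HH X₁ (seq q Z).X₂ (0 + 1)) :=
    subsingleton_HH_push ((Scheme.Modules.pullback q).obj Z) 0
  exact (exact_delta_hmap (seq_shortExact hq Z) 0 y).1 (Subsingleton.elim _ _)

/-- The degree shift, bundled. -/
def shiftm (hq : IsCover q) (Z : X₁.Modules) [Coh.IsQCoh Z] (m : ℕ) :
    Hm A (cokernel (η q Z)) (m + 1) ≃ₗ[A] Hm A Z (m + 2) :=
  shift hq Z m

end Groth.L17.Kun
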